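import Cfsg.Agent.LocalTwins.Chain

/-!
# Lines of a 3-transposition class

`Ln D x y z`: every member commuting with `x` and `y` commutes with `z`. If, among the members
commuting with `x`, some two noncommuting members have the same partners outside their lines, then
any two members commuting with two distinct commuting members commute.
-/

set_option autoImplicit false

open Cfsg

namespace Cfsg.Agent.LocalLines

open Cfsg.Agent.ThreeTrans Cfsg.Agent.LocalTwins

variable {G : Type*} [Group G] {D : Set G} {a p q x y z u v w : G}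

/-- `z` is on the line of `x` and `y`. -/
def Ln (D : Set G) (x y z : G) : Prop := ∀ e ∈ D, Commute e x → Commute e y → Commute e z

/-- Two members commuting with two distinct commuting members commute. -/
def Lam (D : Set G) : Prop :=
  ∀ a ∈ D, ∀ b ∈ D, a ≠ b → Commute a b → ∀ u ∈ D, ∀ v ∈ D, Commute u a → Commute u b →
    Commute v a → Commute v b → Commute u v

/-- `u` commutes with `x` and `y` and is not on their line. -/
def Off (D : Set G) (x y u : G) : Prop :=
  u ∈ D ∧ Commute u x ∧ Commute u y ∧ ¬ Ln D x y u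

theorem ln_swap (h : Ln D x y z) : Ln D y x z := fun e he hy hx => h e he hx hy

theorem mem_conj_iff (hc : ∀ g : G, ∀ d ∈ D, g * d * g⁻¹ ∈ D) (g y : G) :
    y ∈ D ↔ g * y * g⁻¹ ∈ D :=
  ⟨hc g y, fun h => by simpa [mul_assoc] using hc g⁻¹ _ h⟩

theorem ln_conj_iff (hc : ∀ g : G, ∀ d ∈ D, g * d * g⁻¹ ∈ D) (g x y z : G) :
    Ln D (g * x * g⁻¹) (g * y * g⁻¹) (g * z * g⁻¹) ↔ Ln D x y z := by
  constructor
  · intro h e he hx hy
    exact (commute_conj g e z).1 (h _ (hc g e he) ((commute_conj g e x).2 hx)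
      ((commute_conj g e y).2 hy))
  · intro h e he hx hy
    obtain ⟨e', rfl⟩ : ∃ e', e = g * e' * g⁻¹ := ⟨g⁻¹ * e * g, by group⟩
    rw [commute_conj] at hx hy ⊢
    exact h e' ((mem_conj_iff hc g e').2 he) hx hy

theorem off_conj_iff (hc : ∀ g : G, ∀ d ∈ D, g * d * g⁻¹ ∈ D) (g x y u : G) :
    Off D (g * x * g⁻¹) (g * y * g⁻¹) (g * u * g⁻¹) ↔ Off D x y u := by
  refine and_congr ?_ (and_congr (commute_conj g u x) (and_congr (commute_conj g u y)
    (not_congr (ln_conj_iff hc g x y u))))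
  exact (mem_conj_iff hc g u).symm

theorem Off.swap (h : Off D x y u) : Off D y x u := ⟨h.1, h.2.2.1, h.2.1, fun h' => h.2.2.2 (ln_swap h')⟩

theorem Off.mem_dperp (h : Off D x y u) : u ∈ dperp D x :=
  ⟨h.1, fun e => h.2.2.2 (e ▸ fun _ _ hx _ => hx), h.2.1.symm⟩

/-- `y` and `z` commute with `x`, not with each other, and have the same partners outside the
lines. -/
structure Twin (D : Set G) (x y z : G) : Prop where
  hy : y ∈ dperp D x
  hz : z ∈ dperp D x
  hnc : ¬ Commute y z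
  same : ∀ u, Off D x y u ↔ Off D x z u

theorem Twin.conj (hc : ∀ g : G, ∀ d ∈ D, g * d * g⁻¹ ∈ D) (g : G) (h : Twin D x y z) :
    Twin D (g * x * g⁻¹) (g * y * g⁻¹) (g * z * g⁻¹) := by
  refine ⟨dperp_conj hc g h.hy, dperp_conj hc g h.hz, fun e => h.hnc ((commute_conj g _ _).1 e),
    fun u => ?_⟩
  obtain ⟨u', rfl⟩ : ∃ u', u = g * u' * g⁻¹ := ⟨g⁻¹ * u * g, by group⟩
  rw [off_conj_iff hc, off_conj_iff hc]
  exact h.same u'

variable [Finite G]

/-- The standing hypotheses. -/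
structure Setup (D : Set G) : Prop where
  hsol : ∀ N : Subgroup G, N.Normal → N ≤ commutator G → Group.IsSolvable N → N = ⊥
  hperf : ⁅commutator G, commutator G⁆ = commutator G
  cls : IsThreeTranspositionClass D
  symm : ∀ x ∈ D, ∀ y ∈ dperp D x, ∀ z ∈ dperp D x, Ln D x y z → Ln D x z y
  pair : ∀ x ∈ D, ∀ y ∈ dperp D x, ∃ z ∈ dperp D x, z ≠ y ∧ Ln D x y z
  twins : ∃ x y z, x ∈ D ∧ Twin D x y z

namespace Setup

variable (S : Setup D)
include S

theorem hT : IsThreeTranspositionSet D := S.cls.1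

theorem hc : ∀ g : G, ∀ d ∈ D, g * d * g⁻¹ ∈ D := class_conj S.cls

theorem trans (hx : x ∈ D) (hy : y ∈ dperp D x) (ha : a ∈ D) (hp : p ∈ dperp D a) :
    ∃ g : G, g * a * g⁻¹ = x ∧ g * p * g⁻¹ = y := by
  obtain ⟨g, hg⟩ := class_isConj S.cls ha hx
  have h1 := dperp_conj S.hc g hp
  rw [hg] at h1
  obtain ⟨k, hk, hk2⟩ := exists_commute_conj_dperp S.hsol S.hperf S.cls hx h1 hy
  refine ⟨k * g, ?_, ?_⟩
  · calc k * g * a * (k * g)⁻¹ = k * (g * a * g⁻¹) * k⁻¹ := by group
      _ = x := by rw [hg, hk.eq, mul_inv_cancel_right]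
  · calc k * g * p * (k * g)⁻¹ = k * (g * p * g⁻¹) * k⁻¹ := by group
      _ = y := hk2

theorem exists_twin (hx : x ∈ D) (hy : y ∈ dperp D x) : ∃ z, Twin D x y z := by
  obtain ⟨a, p, q, ha, h⟩ := S.twins
  obtain ⟨g, hg1, hg2⟩ := S.trans hx hy ha h.hy
  refine ⟨g * q * g⁻¹, ?_⟩
  have := h.conj S.hc g
  rwa [hg1, hg2] at this

theorem off_symm (hy : y ∈ dperp D x) (hx : x ∈ D) (h : Off D x y u) : Off D x u y :=
  ⟨hy.1, hy.2.2.symm, h.2.2.1.symm,
    fun h' => h.2.2.2 (S.symm x hx u h.mem_dperp y hy h')⟩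

theorem exists_mixed (hx : x ∈ D) (hy : y ∈ dperp D x) :
    ∃ z v, Twin D x y z ∧ v ∈ dperp D y ∧ ¬ Commute v x ∧ ¬ Commute v z := by
  obtain ⟨z, h⟩ := S.exists_twin hx hy
  refine ⟨z, ?_⟩
  by_contra hcon
  have hv' : ∀ v ∈ dperp D y, ¬ Commute v x → Commute v z := fun v hv hvx => by
    by_contra hvz
    exact hcon ⟨v, h, hv, hvx, hvz⟩
  by_cases hex : ∃ v ∈ dperp D y, ¬ Commute v x
  · obtain ⟨v, hv, hvx⟩ := hex
    obtain ⟨v', hv2, hne, hl⟩ := S.pair y hy.1 v hv
    have hl' : Ln D y v' v := S.symm y hy.1 v hv v' hv2 hl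
    have hvx' : ¬ Commute v' x := fun h' =>
      hvx (hl' x hx hy.2.2 h'.symm).symm
    have hcv : Commute v v' := (hl v hv.1 hv.2.2.symm (Commute.refl v))
    have hy1 : y ∈ dperp D v' := ⟨hy.1, Ne.symm hv2.2.1, hv2.2.2.symm⟩
    have hv1 : v ∈ dperp D v' := ⟨hv.1, Ne.symm hne, hcv.symm⟩
    have h2 : Ln D v' v y := S.symm v' hv2.1 y hy1 v hv1 (ln_swap hl')
    exact h.hnc (h2 z h.hz.1 (hv' v' hv2 hvx').symm (hv' v hv hvx).symm).symm
  · push Not at hex
    have hzy : z ≠ y := fun e => h.hnc (e ▸ Commute.refl z)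
    have hsub : insert y (insert z (dperp D y \ {x})) ⊆ dperp D x := by
      refine Set.insert_subset hy (Set.insert_subset h.hz ?_)
      rintro e ⟨he, hex'⟩
      exact ⟨he.1, hex', (hex e he).symm⟩
    have hxy : x ∈ dperp D y := ⟨hx, Ne.symm hy.2.1, hy.2.2.symm⟩
    have hcard : (dperp D x).ncard ≤ (dperp D y).ncard := by
      obtain ⟨g, hg⟩ := class_isConj S.cls hy.1 hx
      refine Set.ncard_le_ncard_of_injOn (fun e => g⁻¹ * e * g) (fun e he => ?_) ?_ (Set.toFinite _)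
      · have := dperp_conj S.hc g⁻¹ he
        rwa [inv_inv, ← hg, show g⁻¹ * (g * y * g⁻¹) * g = y by group] at this
      · exact fun e _ e' _ h' => mul_left_cancel (mul_right_cancel h')
    have h1 := Set.ncard_le_ncard hsub (Set.toFinite _)
    rw [Set.ncard_insert_of_notMem, Set.ncard_insert_of_notMem,
      Set.ncard_sdiff_singleton_of_mem hxy] at h1
    · have := (Set.ncard_pos (Set.toFinite (dperp D y))).2 ⟨x, hxy⟩
      omega
    · exact fun hz => h.hnc hz.1.2.2
    · rintro (e | he)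
      · exact hzy e.symm
      · exact he.1.2.1 rfl

theorem chain_of_twin (hx : x ∈ D) (h : Twin D x y z) (hv : v ∈ dperp D y)
    (hvx : ¬ Commute v x) (hvz : ¬ Commute v z) : Chain D x v z y where
  ha := hx
  hb := hv.1
  hc := h.hz.1
  hd := h.hy.1
  nab := fun e => hvx e.symm
  nbc := hvz
  ncd := fun e => h.hnc e.symm
  hac := h.hz.2.2
  had := h.hy.2.2
  hbd := hv.2.2.symm

theorem twin_of_chain (hx : x ∈ D) (h : Twin D x y z) (hv : v ∈ dperp D y)
    (hvx : ¬ Commute v x) (hvz : ¬ Commute v z) : Twin D y x v := by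
  obtain ⟨g, g1, g2, g3, g4, -⟩ := (S.chain_of_twin hx h hv hvx hvz).exists_rev S.hT
  have := h.conj S.hc g
  rwa [g1, g4, g3] at this

theorem twin_transfer (hx : x ∈ D) (hy : y ∈ dperp D x) (hu : Off D x y u)
    (hq : Twin D x u q) : Twin D y u q := by
  obtain ⟨z, v, h, hv, hvx, hvz⟩ := S.exists_mixed hx hy
  have h' := S.twin_of_chain hx h hv hvx hvz
  obtain ⟨g, g1, -, -, -, g5⟩ := (S.chain_of_twin hx h hv hvx hvz).exists_rev S.hT
  have hcomm : ∀ e, Off D x y e → g * e * g⁻¹ = e := by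
    intro e he
    have hev : Off D y v e := (h'.same e).1 he.swap
    have hez : Off D x z e := (h.same e).1 he
    rw [(g5 e he.2.1 hev.2.2.1 hez.2.2.1 he.2.2.1).symm.eq, mul_inv_cancel_right]
  have hqS : Off D x y q := S.off_symm hq.hz hx ((hq.same y).1 (S.off_symm hy hx hu))
  have := hq.conj S.hc g
  rwa [g1, hcomm u hu, hcomm q hqS] at this

theorem lam : Lam D := by
  have key : ∀ x ∈ D, ∀ y ∈ dperp D x, ∀ u, ¬ Off D x y u := by
    intro x hx y hy u hu
    obtain ⟨z, v, h, hv, hvx, hvz⟩ := S.exists_mixed hx hy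
    have h' := S.twin_of_chain hx h hv hvx hvz
    have h1 : Twin D u y z := S.twin_transfer hx hu.mem_dperp (S.off_symm hy hx hu) h
    have h2 : Off D y v u := (h'.same u).1 hu.swap
    have h3 : Off D u y v := (S.off_symm hv hy.1 h2).swap
    exact hvz ((h1.same v).1 h3).2.2.1
  intro a ha b hb hne hab u hu v hv hua hub hva hvb
  by_contra huv
  exact key a ha b ⟨hb, Ne.symm hne, hab⟩ v ⟨hv, hva, hvb, fun h => huv (h u hu hua hub)⟩

end Setup

end Cfsg.Agent.LocalLines
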