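import Cfsg.Agent.LocalTwins.Main
import Cfsg.Agent.LocalLines.Basic
import Cfsg.Agent.ThreeTrans.O232Quot
import Cfsg.Agent.ThreeTrans.Central
import Cfsg.Agent.Core.Fitting

/-!
# The members commuting with one member, modulo the largest normal 2-subgroup

For `x` with `⟨D_x⟩` solvable and with central odd core, the commuting relation among the members
commuting with `x` is, modulo `O₂`, equality.
-/

set_option autoImplicit false

open Cfsg

namespace Cfsg.Agent.LocalLines

open Cfsg.Agent.ThreeTrans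

variable {G : Type*} [Group G] {D : Set G} {x y z : G}

/-- The members commuting with `x`, inside the group they generate. -/
def loc (D : Set G) (x : G) : Set ↥(Subgroup.closure (dperp D x)) := {h | (h : G) ∈ dperp D x}

theorem commute_coe {H : Subgroup G} {a b : H} : Commute (a : G) b ↔ Commute a b :=
  ⟨fun h => Subtype.ext h.eq, fun h => congrArg Subtype.val h.eq⟩

theorem commute_of_mem_closure (ha : x ∈ D) {h : G} (hh : h ∈ Subgroup.closure (dperp D x)) :
    Commute h x := by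
  have hle : Subgroup.closure (dperp D x) ≤ Subgroup.centralizer ({x} : Set G) := by
    rw [Subgroup.closure_le]
    exact fun e he => Subgroup.mem_centralizer_singleton_iff.2 he.2.2.eq.symm
  exact Subgroup.mem_centralizer_singleton_iff.1 (hle hh)

variable [Finite G]

/-- What `Fischer` provides about the class and one member. -/
structure Pre (D : Set G) : Prop where
  hsol : ∀ N : Subgroup G, N.Normal → N ≤ commutator G → Group.IsSolvable N → N = ⊥
  hperf : ⁅commutator G, commutator G⁆ = commutator G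
  cls : IsThreeTranspositionClass D
  nonab : ∃ a ∈ D, ∃ b ∈ D, ¬ Commute a b
  solv : ∀ x ∈ D, Group.IsSolvable ↥(Subgroup.closure (dperp D x))
  odd : ∀ x ∈ D, oddCore ↥(Subgroup.closure (dperp D x)) ≤
    Subgroup.center ↥(Subgroup.closure (dperp D x))

namespace Pre

variable (S : Pre D)
include S

theorem hT : IsThreeTranspositionSet D := S.cls.1

theorem hc : ∀ g : G, ∀ d ∈ D, g * d * g⁻¹ ∈ D := class_conj S.cls

theorem exists_two (hx : x ∈ D) : ∃ a ∈ dperp D x, ∃ b ∈ dperp D x, a ≠ b := by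
  obtain ⟨a, ha, b, hb, hab⟩ := S.nonab
  obtain ⟨e, he, heb⟩ := exists_common S.hsol S.hperf S.cls ha hb hab
  obtain ⟨g, hg⟩ := class_isConj S.cls he.1 hx
  have h1 : a ∈ dperp D e := ⟨ha, Ne.symm he.2.1, he.2.2.symm⟩
  have h2 : b ∈ dperp D e :=
    ⟨hb, fun h => hab (h ▸ he.2.2), heb⟩
  have h1' := dperp_conj S.hc g h1
  have h2' := dperp_conj S.hc g h2
  rw [hg] at h1' h2'
  exact ⟨_, h1', _, h2', fun h => hab (mul_left_cancel (mul_right_cancel h) ▸ Commute.refl a)⟩

theorem loc_class (hx : x ∈ D) : IsThreeTranspositionClass (loc D x) := by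
  obtain ⟨y, hy, -⟩ := S.exists_two hx
  refine ⟨⟨fun h hh => ?_, fun h hh k hk => ?_⟩, ⟨⟨y, Subgroup.subset_closure hy⟩, hy, ?_⟩, ?_⟩
  · rw [← Subgroup.orderOf_coe]; exact S.hT.1 _ hh.1
  · exact (S.hT.2 _ hh.1 _ hk.1).imp (fun e => Subtype.ext (by simpa using e))
      (fun e => Subtype.ext (by simpa using e))
  · refine Set.ext fun h => ⟨fun hh => ?_, fun hh => ?_⟩
    · obtain ⟨g, hg, hgy⟩ := exists_conj_of_mem_dcomp S.hT hy
        (by rw [dcomp_eq_dperp S.hsol S.hperf S.cls hx hy]; exact hh)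
      refine isConj_iff.2 ?_
      exact ⟨⟨g, hg⟩, Subtype.ext hgy⟩
    · obtain ⟨g, rfl⟩ := isConj_iff.1 (hh : IsConj _ h)
      show (g : G) * y * (g : G)⁻¹ ∈ dperp D x
      have := dperp_conj S.hc (g : G) hy
      rwa [(commute_of_mem_closure hx g.2).eq, mul_inv_cancel_right] at this
  · exact Subgroup.closure_closure_coe_preimage

theorem loc_two (hx : x ∈ D) : ∃ a ∈ loc D x, ∃ b ∈ loc D x, a ≠ b := by
  obtain ⟨a, ha, b, hb, hab⟩ := S.exists_two hx
  exact ⟨⟨a, Subgroup.subset_closure ha⟩, ha, ⟨b, Subgroup.subset_closure hb⟩, hb,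
    fun h => hab (congrArg Subtype.val h)⟩

theorem not_abelian (hx : x ∈ D) : ∃ a ∈ loc D x, ∃ b ∈ loc D x, ¬ Commute a b := by
  obtain ⟨a, ha, -⟩ := S.loc_two hx
  obtain ⟨b, hb, hab⟩ := exists_not_commute (S.loc_class hx) (S.loc_two hx) ha
  exact ⟨a, ha, b, hb, hab⟩

theorem three_central (hx : x ∈ D) :
    pCore 3 ↥(Subgroup.closure (dperp D x)) ≤ Subgroup.center _ := by
  have := Fact.mk Nat.prime_three
  refine le_trans (Core.le_pPrimeCore (p := 2) ?_) (S.odd x hx)
  obtain ⟨n, hn⟩ := IsPGroup.iff_card.1 (Core.pCore_isPGroup (p := 3) (G := ↥(Subgroup.closure (dperp D x))))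
  rw [hn]
  exact Nat.Coprime.pow_left n (by norm_num)

theorem two_not_central (hx : x ∈ D) :
    ¬ pCore 2 ↥(Subgroup.closure (dperp D x)) ≤ Subgroup.center _ := by
  intro h2
  have := S.solv x hx
  obtain ⟨a, ha, -⟩ := S.loc_two hx
  refine not_mem_center (S.loc_class hx) (S.loc_two hx) ha
    (fitting_le_center (S.loc_class hx) h2 (S.three_central hx) ?_)
  refine Core.centralizer_fittingSubgroup_le (Subgroup.mem_centralizer_iff.2 fun f hf => ?_)
  exact (Subgroup.mem_center_iff.1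
    (fitting_le_center (S.loc_class hx) h2 (S.three_central hx) hf) a).symm

/-- Membership in a line through `x`, as the relation `Tau` among the members commuting with `x`. -/
theorem tau_of_ln {a b : ↥(Subgroup.closure (dperp D x))} (hx : x ∈ D) (ha : a ∈ loc D x)
    (hb : b ∈ loc D x) (h : Ln D x a b) : Tau (loc D x) a b := by
  have hcls := S.loc_class hx
  let P : ↥(Subgroup.closure (dperp D x)) → Set ↥(Subgroup.closure (dperp D x)) :=
    fun c => {e | e ∈ loc D x ∧ Commute c e}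
  have hsub : P a ⊆ P b := fun e he => ⟨he.1, commute_coe.1
    (h e he.1.1 he.1.2.2.symm (commute_coe.2 he.2.symm)).symm⟩
  obtain ⟨g, hg⟩ := class_isConj hcls ha hb
  have hcard : (P b).ncard ≤ (P a).ncard := by
    refine Set.ncard_le_ncard_of_injOn (fun e => g⁻¹ * e * g) (fun e he => ?_) ?_ (Set.toFinite _)
    · have h1 := class_conj hcls g⁻¹ e he.1
      rw [inv_inv] at h1
      refine ⟨h1, (commute_conj g _ _).1 ?_⟩
      rw [hg, show g * (g⁻¹ * e * g) * g⁻¹ = e by group]
      exact he.2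
    · exact fun e _ e' _ h' => mul_left_cancel (mul_right_cancel h')
  have heq := Set.eq_of_subset_of_ncard_le hsub hcard (Set.toFinite _)
  intro e he
  exact ⟨fun h' => (heq ▸ (⟨he, h'⟩ : e ∈ P a) : e ∈ P b).2,
    fun h' => (heq.symm ▸ (⟨he, h'⟩ : e ∈ P b) : e ∈ P a).2⟩

theorem ln_of_tau {a b : ↥(Subgroup.closure (dperp D x))} (hb : b ∈ loc D x)
    (h : Tau (loc D x) a b) : Ln D x a b := by
  intro e he hex hea
  by_cases hne : e = x
  · subst hne; exact hb.2.2
  · let e' : ↥(Subgroup.closure (dperp D x)) := ⟨e, Subgroup.subset_closure ⟨he, hne, hex.symm⟩⟩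
    exact commute_coe.2 (((h e' ⟨he, hne, hex.symm⟩).1
      (commute_coe.1 (show Commute (a : G) (e' : G) from hea.symm))).symm)

theorem map_commute (hx : x ∈ D) {a b : ↥(Subgroup.closure (dperp D x))} (ha : a ∈ loc D x)
    (hb : b ∈ loc D x)
    (h : Commute (QuotientGroup.mk' (pCore 2 ↥(Subgroup.closure (dperp D x))) a)
      (QuotientGroup.mk' (pCore 2 _) b)) : Commute a b := by
  have hT := (S.loc_class hx).1
  set π := QuotientGroup.mk' (pCore 2 ↥(Subgroup.closure (dperp D x)))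
  by_contra hab
  have h3 := cube_of_not_commute hT ha hb hab
  have ha2 : π a * π a = 1 := by rw [← map_mul, mul_self hT ha, map_one]
  have hb2 : π b * π b = 1 := by rw [← map_mul, mul_self hT hb, map_one]
  have h1 : π ((a * b) ^ 2) = 1 := by
    rw [map_pow, map_mul, h.mul_pow, sq, sq, ha2, hb2, one_mul]
  have h4 := eq_one_of_mem_pGroup Core.pCore_isPGroup ((QuotientGroup.eq_one_iff _).1 h1)
    (n := 3) (by rw [← pow_mul, mul_comm, pow_mul, h3, one_pow]) (by norm_num)
  exact hab ((sq_eq_one_iff hT ha hb).1 h4)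

theorem map_eq_iff (hx : x ∈ D) {a b : ↥(Subgroup.closure (dperp D x))} (ha : a ∈ loc D x)
    (hb : b ∈ loc D x) : QuotientGroup.mk' (pCore 2 ↥(Subgroup.closure (dperp D x))) a =
      QuotientGroup.mk' (pCore 2 _) b ↔ Tau (loc D x) a b := by
  rw [tau_iff (class_toGroup (S.loc_class hx)) ha hb]
  exact QuotientGroup.eq

theorem quot_class (hx : x ∈ D) :
    IsThreeTranspositionClass
        ((QuotientGroup.mk' (pCore 2 ↥(Subgroup.closure (dperp D x)))) '' loc D x) ∧
      (∃ a ∈ (QuotientGroup.mk' (pCore 2 ↥(Subgroup.closure (dperp D x)))) '' loc D x,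
        ∃ b ∈ (QuotientGroup.mk' (pCore 2 _)) '' loc D x, ¬ Commute a b) := by
  set π := QuotientGroup.mk' (pCore 2 ↥(Subgroup.closure (dperp D x)))
  obtain ⟨a, ha, b, hb, hab⟩ := S.not_abelian hx
  have hcls := S.loc_class hx
  have hsur := QuotientGroup.mk'_surjective (pCore 2 ↥(Subgroup.closure (dperp D x)))
  have hconj : ∀ e ∈ loc D x, ∃ g, π g * π a * (π g)⁻¹ = π e := fun e he => by
    obtain ⟨g, hg⟩ := class_isConj hcls ha he
    exact ⟨g, by rw [← hg]; simp⟩
  have hne : ∀ e ∈ loc D x, π e ≠ 1 := by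
    intro e he h1
    obtain ⟨g, hg⟩ := hconj e he
    have ha1 : π a = 1 := by
      rw [h1, mul_inv_eq_one] at hg
      exact mul_left_cancel (hg.trans (mul_one _).symm)
    exact hab (S.map_commute hx ha hb (ha1 ▸ Commute.one_left _))
  refine ⟨⟨⟨?_, ?_⟩, ⟨π a, Set.mem_image_of_mem π ha, ?_⟩, ?_⟩,
    π a, Set.mem_image_of_mem π ha, π b, Set.mem_image_of_mem π hb,
    fun h => hab (S.map_commute hx ha hb h)⟩
  · rintro _ ⟨e, he, rfl⟩
    exact orderOf_eq_prime (by rw [sq, ← map_mul, mul_self hcls.1 he, map_one]) (hne e he)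
  · rintro _ ⟨e, he, rfl⟩ _ ⟨f, hf, rfl⟩
    rw [← map_mul, ← map_pow, ← map_pow]
    exact (hcls.1.2 e he f hf).imp (fun h => by rw [h, map_one]) (fun h => by rw [h, map_one])
  · refine Set.ext fun q => ⟨?_, fun hq => ?_⟩
    · rintro ⟨e, he, rfl⟩
      obtain ⟨g, hg⟩ := hconj e he
      exact isConj_iff.2 ⟨π g, hg⟩
    · obtain ⟨k, rfl⟩ := isConj_iff.1 (hq : IsConj _ q)
      obtain ⟨g, rfl⟩ := hsur k
      exact ⟨g * a * g⁻¹, class_conj hcls g a ha, by simp [π]⟩
  · rw [← MonoidHom.map_closure, hcls.2.2, Subgroup.map_top_of_surjective π hsur]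

theorem exists_twin (hx : x ∈ D) : ∃ y z, Twin D x y z := by
  have := Fact.mk Nat.prime_three
  have := Fact.mk Nat.prime_two
  have := S.solv x hx
  set π := QuotientGroup.mk' (pCore 2 ↥(Subgroup.closure (dperp D x)))
  obtain ⟨hcls, a, ha, b, hb, hab⟩ := S.quot_class hx
  have hK2 : pCore 2 (↥(Subgroup.closure (dperp D x)) ⧸ pCore 2 ↥(Subgroup.closure (dperp D x))) = ⊥ :=
    Core.pCore_quotient_eq_bot
  have h3 : ¬ pCore 3 (↥(Subgroup.closure (dperp D x)) ⧸ pCore 2 ↥(Subgroup.closure (dperp D x))) ≤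
      Subgroup.center _ := by
    intro h3
    have h2 : pCore 2 (↥(Subgroup.closure (dperp D x)) ⧸ pCore 2 ↥(Subgroup.closure (dperp D x))) ≤
      Subgroup.center _ := by rw [hK2]; exact bot_le
    have hFc := fitting_le_center hcls h2 h3
    have : a ∈ Subgroup.center (↥(Subgroup.closure (dperp D x)) ⧸ pCore 2 ↥(Subgroup.closure (dperp D x))) :=
      hFc (Core.centralizer_fittingSubgroup_le (Subgroup.mem_centralizer_iff.2 fun f hf =>
        (Subgroup.mem_center_iff.1 (hFc hf) a).symm))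
    exact hab (Subgroup.mem_center_iff.1 this b).symm
  obtain ⟨g, hg, hne⟩ := exists_conj_ne hcls h3 ha
  obtain ⟨a', ha', rfl⟩ := ha
  obtain ⟨c, hc, hc'⟩ := class_conj hcls g _ (Set.mem_image_of_mem π ha')
  have hθ : Theta (π '' loc D x) (π a') (π c) := by
    refine theta_of_mem_pCore hcls.1 (Set.mem_image_of_mem π ha') (Set.mem_image_of_mem π hc) ?_
    rw [hc']
    have h1 := mul_mem ((Core.pCore_normal (p := 3) (G := _ ⧸ _)).conj_mem g hg (π a')⁻¹) (inv_mem hg)
    simpa [mul_assoc] using h1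
  have hne' : π a' ≠ π c := fun h => hne (by rw [← hc', ← h])
  refine ⟨a', c, ha', hc, fun h => ?_, fun u => ?_⟩
  · refine not_commute_of_theta (Set.mem_image_of_mem π hc) hθ hne' ?_
    exact (commute_coe.1 h).map π
  · constructor
    · rintro ⟨hu, hux, hua, hln⟩
      have hne0 : u ≠ x := fun e => hln (fun f _ h _ => by rw [e]; exact h)
      let u' : ↥(Subgroup.closure (dperp D x)) := ⟨u, Subgroup.subset_closure ⟨hu, hne0, hux.symm⟩⟩
      have hu' : u' ∈ loc D x := ⟨hu, hne0, hux.symm⟩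
      have h1 : π u' ≠ π a' := fun h => hln (S.ln_of_tau hu'
        ((S.map_eq_iff hx ha' hu').1 h.symm))
      obtain ⟨h2, h3'⟩ := (hθ (π u') (Set.mem_image_of_mem π hu')).1
        ⟨h1, (commute_coe.1 (show Commute (a' : G) (u' : G) from hua.symm)).map π⟩
      refine ⟨hu, hux, (commute_coe.2 (S.map_commute hx hc hu' h3')).symm, fun h => h2 ?_⟩
      exact ((S.map_eq_iff hx hc hu').2 (S.tau_of_ln hx hc hu' h)).symm
    · rintro ⟨hu, hux, huc, hln⟩
      have hne0 : u ≠ x := fun e => hln (fun f _ h _ => by rw [e]; exact h)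
      let u' : ↥(Subgroup.closure (dperp D x)) := ⟨u, Subgroup.subset_closure ⟨hu, hne0, hux.symm⟩⟩
      have hu' : u' ∈ loc D x := ⟨hu, hne0, hux.symm⟩
      have h1 : π u' ≠ π c := fun h => hln (S.ln_of_tau hu'
        ((S.map_eq_iff hx hc hu').1 h.symm))
      obtain ⟨h2, h3'⟩ := (hθ (π u') (Set.mem_image_of_mem π hu')).2
        ⟨h1, (commute_coe.1 (show Commute (c : G) (u' : G) from huc.symm)).map π⟩
      refine ⟨hu, hux, (commute_coe.2 (S.map_commute hx ha' hu' h3')).symm, fun h => h2 ?_⟩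
      exact ((S.map_eq_iff hx ha' hu').2 (S.tau_of_ln hx ha' hu' h)).symm

theorem setup : Setup D where
  hsol := S.hsol
  hperf := S.hperf
  cls := S.cls
  symm := fun x hx y hy z hz h => by
    let y' : ↥(Subgroup.closure (dperp D x)) := ⟨y, Subgroup.subset_closure hy⟩
    let z' : ↥(Subgroup.closure (dperp D x)) := ⟨z, Subgroup.subset_closure hz⟩
    exact S.ln_of_tau (a := z') (b := y') hy (tau_symm (S.tau_of_ln (a := y') (b := z') hx hy hz h))
  pair := fun x hx y hy => by
    let y' : ↥(Subgroup.closure (dperp D x)) := ⟨y, Subgroup.subset_closure hy⟩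
    obtain ⟨g, hg, hne⟩ := exists_conj_ne (S.loc_class hx) (S.two_not_central hx) (d := y') hy
    have hz := class_conj (S.loc_class hx) g y' hy
    refine ⟨_, hz, fun h => hne (Subtype.ext h), S.ln_of_tau (a := y') hz ?_⟩
    refine tau_of_mem_pCore (S.loc_class hx).1 hy hz ?_
    have h1 := mul_mem ((Core.pCore_normal (p := 2) (G := _)).conj_mem g hg y'⁻¹) (inv_mem hg)
    simpa [mul_assoc] using h1
  twins := by
    obtain ⟨a, ha, -⟩ := S.nonab
    obtain ⟨y, z, h⟩ := S.exists_twin ha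
    exact ⟨a, y, z, ha, h⟩

end Pre

end Cfsg.Agent.LocalLines
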