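import Cfsg.Agent.LocalLines.Init

/-!
# A group given by the conjugation table of a class
-/

set_option autoImplicit false

open Cfsg

namespace Cfsg.Agent.LocalLines

open Cfsg.Agent.ThreeTrans

variable {G : Type*} [Group G] [Finite G] {D : Set G} {M : Table} {f : ℕ → G}

/-- The permutations of the names that the table gives to the members. -/
def tablePerms (M : Table) : Set (Equiv.Perm (Fin M.n)) :=
  {π | ∃ a : Fin M.n, ∀ b : Fin M.n, ((π b : Fin M.n) : ℕ) = M.k a b}

/-- A group acting on the names with the table permutations as generators covers the group of the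
class. -/
theorem Full.iso_quot (F : Full D M f) (hs : M.sep = true) (hD : IsThreeTranspositionClass D)
    (hall : ∀ y ∈ D, ∃ a < M.n, f a = y) (hz : Subgroup.center G = ⊥) {H : Type*} [Group H]
    (ψ : H →* Equiv.Perm (Fin M.n)) (hψ : ψ.range = Subgroup.closure (tablePerms M)) :
    Nonempty (G ≃* H ⧸ ψ.ker) := by
  classical
  have hbij : Function.Bijective (fun b : Fin M.n => (⟨f b, F.mem b b.2⟩ : D)) := by
    refine ⟨fun a b h => Fin.ext (F.inj hs a.2 b.2 (congrArg Subtype.val h)), fun ⟨y, hy⟩ => ?_⟩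
    obtain ⟨a, ha, rfl⟩ := hall y hy
    exact ⟨⟨a, ha⟩, rfl⟩
  let e : Fin M.n ≃ D := Equiv.ofBijective _ hbij
  have he : ∀ b : Fin M.n, ((e b : D) : G) = f b := fun _ => rfl
  have hc := class_conj hD
  let sm : G → Fin M.n → Fin M.n := fun g b => e.symm ⟨g * (e b : G) * g⁻¹, hc g _ (e b).2⟩
  have hsm : ∀ g b, f (sm g b) = g * f b * g⁻¹ := fun g b => by
    rw [← he, Equiv.apply_symm_apply]; rfl
  have hext : ∀ i j : Fin M.n, f i = f j → i = j := fun i j h => Fin.ext (F.inj hs i.2 j.2 h)
  let _ : MulAction G (Fin M.n) :=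
    { smul := sm
      one_smul := fun b => hext _ _ (by show f (sm 1 b) = f b; rw [hsm]; simp)
      mul_smul := fun g k b => hext _ _ (by
        show f (sm (g * k) b) = f (sm g (sm k b))
        rw [hsm, hsm, hsm]; group) }
  let Φ := MulAction.toPermHom G (Fin M.n)
  have hΦ : ∀ g b, f (Φ g b) = g * f b * g⁻¹ := hsm
  have hinj : Function.Injective Φ := by
    rw [← MonoidHom.ker_eq_bot_iff, eq_bot_iff, ← hz]
    intro g hg
    refine Subgroup.mem_center_iff.2 fun x => ?_
    refine (commute_all hD.2.2 (fun y hy => ?_) x).eq.symm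
    obtain ⟨a, ha, rfl⟩ := hall y hy
    have h := hΦ g ⟨a, ha⟩
    rw [MonoidHom.mem_ker.1 hg] at h
    show g * f a = f a * g
    conv_rhs => rw [show f a = g * f a * g⁻¹ from h]
    group
  have himg : Φ '' D = tablePerms M := by
    refine Set.ext fun π => ⟨?_, ?_⟩
    · rintro ⟨y, hy, rfl⟩
      obtain ⟨a, ha, rfl⟩ := hall y hy
      refine ⟨⟨a, ha⟩, fun b => ?_⟩
      exact F.inj hs (Φ (f a) b).2 (F.lt a ha b b.2)
        (by rw [hΦ, inv_eq hD.1 (F.mem a ha)]; exact F.conj a ha b b.2)
    · rintro ⟨a, ha⟩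
      refine ⟨f a, F.mem a a.2, Equiv.ext fun b => hext _ _ ?_⟩
      rw [hΦ, ha b, inv_eq hD.1 (F.mem a a.2)]
      exact F.conj a a.2 b b.2
  have hrange : Φ.range = ψ.range := by
    rw [hψ, ← himg, ← MonoidHom.map_closure, hD.2.2, MonoidHom.range_eq_map]
  exact ⟨(MonoidHom.ofInjective hinj).trans
    ((MulEquiv.subgroupCongr hrange).trans (QuotientGroup.quotientKerEquivRange ψ).symm)⟩

end Cfsg.Agent.LocalLines
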