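import Cfsg.Agent.LocalLines.Small

/-!
# Lines have three or five members

Traces have as many members as there are lines on a member; a configuration has a line of five
members, and no line is longer.
-/

set_option autoImplicit false

open Cfsg

namespace Cfsg.Agent.LocalLines

open Cfsg.Agent.ThreeTrans Tab

variable {G : Type*} [Group G] [Finite G] {D : Set G} {x y z v : G}

namespace Pre

variable (S : Pre D)
include S

/-- The trace of two members that do not commute meets every line on either. -/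
theorem trace_ncard (hx : x ∈ D) (hv : v ∈ D) (hxv : ¬ Commute x v) (hy : y ∈ dperp D x) {N : ℕ}
    (hk : (dperp D x).ncard = N * ((lineSet D x y).ncard - 1))
    (hN : ∀ T ⊆ dperp D x, (∀ p ∈ T, ∀ q ∈ T, Commute p q → p = q) → T.ncard ≤ N) :
    (trace D x v).ncard = N := by
  classical
  set T := trace D x v
  refine le_antisymm (hN T (S.trace_subset hx hv hxv) (S.trace_indep hx hv hxv)) ?_
  have hw : ∀ p ∈ dperp D x, ∃ t ∈ T, t ∈ lineSet D x p := fun p hp => by
    obtain ⟨w, hw, hwc⟩ := S.exists_on_line hx hp hv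
    exact ⟨w, ⟨hw.1, hw.2.1, hwc.symm⟩, hw⟩
  choose! τ hτT hτl using hw
  have hle : (Set.toFinite (dperp D x)).toFinset.card ≤
      ((lineSet D x y).ncard - 1) * (Set.toFinite T).toFinset.card := by
    refine Finset.card_le_mul_card_image_of_maps_to (f := τ)
      (fun p hp => (Set.Finite.mem_toFinset _).2 (hτT p ((Set.Finite.mem_toFinset _).1 hp))) _ ?_
    intro t ht
    have ht1 := S.trace_subset hx hv hxv ((Set.Finite.mem_toFinset _).1 ht)
    have h1 : (((Set.toFinite (dperp D x)).toFinset.filter fun p => τ p = t) : Set G) ⊆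
        lineSet D x t \ {x} := by
      intro p hp
      simp only [Finset.coe_filter, Set.mem_ofPred_eq, Set.Finite.mem_toFinset] at hp
      refine ⟨⟨hp.1.1, hp.1.2.2.symm, ?_⟩, hp.1.2.1⟩
      rw [← hp.2]
      exact (hτl p hp.1).2.2.symm
    have h2 := Set.ncard_le_ncard h1 (Set.toFinite _)
    rwa [Set.ncard_coe_finset, Set.ncard_sdiff_singleton_of_mem (S.mem_lineSet_left hx ht1),
      ← S.line_card hx hy hx ht1] at h2
  rw [← Set.ncard_eq_toFinset_card, ← Set.ncard_eq_toFinset_card, hk, mul_comm N] at hle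
  exact Nat.le_of_mul_le_mul_left hle (by have := S.three_le_line hx hy; omega)

/-- Lines of four or more members give configurations. -/
theorem exists_conf (h4 : ∀ a ∈ D, ∀ b ∈ dperp D a, 4 ≤ (lineSet D a b).ncard)
    (hT : ∀ a ∈ D, ∀ b ∈ D, ¬ Commute a b → 2 ≤ (trace D a b).ncard) {x v : G} (hx : x ∈ D)
    (hv : v ∈ D) (hxv : ¬ Commute x v) : ∃ z z' y, Conf D x v z z' y := by
  obtain ⟨z, hz, hzv⟩ := exists_dperp_not_commute S.hsol S.cls hx hv hxv
  obtain ⟨e, he, hev⟩ := S.exists_on_line hx hz hv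
  obtain ⟨z', hz', hz'n⟩ : ∃ z' ∈ lineSet D x z, z' ∉ ({x, z, e} : Set G) := by
    refine Set.exists_mem_notMem_of_ncard_lt_ncard ?_ (Set.toFinite _)
    have h1 := Set.ncard_insert_le x ({z, e} : Set G)
    have h2 := Set.ncard_insert_le z ({e} : Set G)
    rw [Set.ncard_singleton] at h2
    have := h4 x hx z hz
    omega
  simp only [Set.mem_insert_iff, Set.mem_singleton_iff, not_or] at hz'n
  obtain ⟨y, hy, hye⟩ := Set.exists_ne_of_one_lt_ncard (hT x hx v hv hxv) e
  have hvz : ¬ Commute v z := fun h => hzv h.symm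
  have hyu : ∀ w ∈ lineSet D x z, w ≠ x → ¬ Commute y w := fun w hw hwx hyw => by
    have hwd : w ∈ dperp D x := ⟨hw.1, hwx, hw.2.1.symm⟩
    have h1 := S.lineSet_eq hx hz (S.mem_lineSet_left hx hz) hw (Ne.symm hwx)
    have hy' : y ∈ lineSet D x z := h1 ▸ (⟨hy.1, hy.2.1, hyw⟩ : y ∈ lineSet D x w)
    exact hye (S.line_unique hx hz hv (fun e => hxv e.symm) hy' he hy.2.2.symm hev)
  exact ⟨z, z', y, hx, hv, hz.1, hz'.1, hy.1, Ne.symm hz'n.2.1, Ne.symm hz.2.1, hxv, hz.2.2,
    hz'.2.1.symm, hy.2.1.symm, hvz,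
    fun e' => hz'n.2.2 (S.line_unique hx hz hv (fun e => hxv e.symm) hz' he e' hev), hy.2.2.symm,
    hz'.2.2.symm, fun e' => hyu z (S.mem_lineSet_right hz) hz.2.1 e'.symm,
    fun e' => hyu z' hz' hz'n.1 e'.symm⟩

end Pre

/-- Eleven lines among the forty-five named members: the first and its images under some members. -/
def lines11 : List (List ℕ) :=
  [[0, 15, 16, 20, 24], [2, 15, 18, 19, 23], [1, 15, 17, 21, 22], [6, 9, 16, 29, 42],
    [7, 10, 20, 33, 37], [8, 11, 24, 28, 41], [3, 12, 16, 27, 38], [4, 13, 20, 31, 39],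
    [5, 14, 24, 32, 43], [0, 35, 36, 40, 44], [0, 25, 26, 30, 34]]

/-- For each of the eleven lines a member mapping the first line to it. -/
def via11 : List ℕ := [0, 1, 2, 3, 4, 5, 6, 7, 8, 25, 35]

/-- The product of the first line. -/
def g11 (f : ℕ → G) : G := f 0 * f 15 * f 16 * f 20 * f 24

theorem g11_conj {f : ℕ → G} (F : Full D tabB f) (hT : IsThreeTranspositionSet D) {b : ℕ}
    (hb : b < 45) : g11 f * f b * (g11 f)⁻¹ = f b := by
  have hn : tabB.n = 45 := rfl
  have hlt : ∀ a < 45, ∀ c < 45, tabB.k a c < 45 := fun a ha c hc => F.lt a (hn ▸ ha) c (hn ▸ hc)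
  have e : ∀ a < 45, ∀ c < 45, f a * f c * (f a)⁻¹ = f (tabB.k a c) := fun a ha c hc => by
    rw [inv_eq hT (F.mem a (hn ▸ ha))]; exact F.conj a (hn ▸ ha) c (hn ▸ hc)
  have h : g11 f * f b * (g11 f)⁻¹ =
      f 0 * (f 15 * (f 16 * (f 20 * (f 24 * f b * (f 24)⁻¹) * (f 20)⁻¹) * (f 16)⁻¹) * (f 15)⁻¹) *
        (f 0)⁻¹ := by
    simp only [g11]; group
  rw [h, e 24 (by norm_num) b hb, e 20 (by norm_num) _ (hlt _ (by norm_num) _ hb),
    e 16 (by norm_num) _ (hlt _ (by norm_num) _ (hlt _ (by norm_num) _ hb)),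
    e 15 (by norm_num) _ (hlt _ (by norm_num) _ (hlt _ (by norm_num) _ (hlt _ (by norm_num) _ hb))),
    e 0 (by norm_num) _ (hlt _ (by norm_num) _ (hlt _ (by norm_num) _ (hlt _ (by norm_num) _
      (hlt _ (by norm_num) _ hb))))]
  exact congrArg f ((by decide +kernel : ∀ b < 45,
    tabB.k 0 (tabB.k 15 (tabB.k 16 (tabB.k 20 (tabB.k 24 b)))) = b) b hb)

namespace Pre

variable (S : Pre D)
include S

/-- A line has at most five members. -/
theorem line_le_five {f : ℕ → G} (F : Full D tabB f) {N : ℕ} (hN9 : N ≤ 9)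
    (hN : ∀ a ∈ D, ∀ T ⊆ dperp D a, (∀ p ∈ T, ∀ q ∈ T, Commute p q → p = q) → T.ncard ≤ N)
    (h2 : ∀ a ∈ D, ∀ b ∈ dperp D a, ∃ q ∈ dperp D a, ¬ Commute q b) :
    (lineSet D (f 0) (f 16)).ncard ≤ 5 := by
  classical
  by_contra hgt
  push Not at hgt
  have hn : tabB.n = 45 := rfl
  have hsep : tabB.sep = true := by decide +kernel
  have hM : ∀ a < 45, f a ∈ D := fun a ha => F.mem a (hn ▸ ha)
  have hR : ∀ a < 45, ∀ b < 45, (Commute (f a) (f b) ↔ tabB.c a b = true) := fun a ha b hb =>
    F.rel a (hn ▸ ha) b (hn ▸ hb)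
  have hI : ∀ a < 45, ∀ b < 45, f a = f b → a = b := fun a ha b hb h =>
    F.inj hsep (hn ▸ ha) (hn ▸ hb) h
  have hlt : ∀ a < 45, ∀ c < 45, tabB.k a c < 45 := fun a ha c hc => F.lt a (hn ▸ ha) c (hn ▸ hc)
  have hxz : f 16 ∈ dperp D (f 0) := ⟨hM 16 (by norm_num),
    fun e => absurd (hI 16 (by norm_num) 0 (by norm_num) e) (by norm_num),
    (hR 0 (by norm_num) 16 (by norm_num)).2 (by decide +kernel)⟩
  set L := lineSet D (f 0) (f 16)
  have hx0 := hM 0 (by norm_num)
  have hfive : ∀ i ∈ [0, 15, 16, 20, 24], f i ∈ L := fun i hi => by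
    obtain ⟨h1, h2, h3⟩ := (by decide +kernel :
      ∀ i ∈ [0, 15, 16, 20, 24], i < 45 ∧ tabB.c i 0 = true ∧ tabB.c i 16 = true) i hi
    exact ⟨hM i h1, (hR i h1 0 (by norm_num)).2 h2, (hR i h1 16 (by norm_num)).2 h3⟩
  obtain ⟨p, hp, hpn⟩ : ∃ p ∈ L, p ∉ ({f 0, f 15, f 16, f 20, f 24} : Set G) := by
    refine Set.exists_mem_notMem_of_ncard_lt_ncard ?_ (Set.toFinite _)
    have h1 := Set.ncard_insert_le (f 0) ({f 15, f 16, f 20, f 24} : Set G)
    have h2 := Set.ncard_insert_le (f 15) ({f 16, f 20, f 24} : Set G)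
    have h3 := Set.ncard_insert_le (f 16) ({f 20, f 24} : Set G)
    have h4 := Set.ncard_insert_le (f 20) ({f 24} : Set G)
    rw [Set.ncard_singleton] at h4
    omega
  simp only [Set.mem_insert_iff, Set.mem_singleton_iff, not_or] at hpn
  have hpd : ∀ a ∈ L, a ≠ p → a ∈ dperp D p := fun a ha hne =>
    ⟨ha.1, hne, S.line_commute hx0 hxz hp ha⟩
  have hp0 := hpd _ (hfive 0 (by simp)) (Ne.symm hpn.1)
  obtain ⟨q, hq, hq0⟩ := h2 p hp.1 _ hp0
  have hqn : ∀ a ∈ L, a ≠ p → ¬ Commute q a := fun a ha hne e => by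
    by_cases ha0 : a = f 0
    · exact hq0 (ha0 ▸ e)
    · exact hq0 (S.lam p hp.1 a ha.1 (Ne.symm hne) (S.line_commute hx0 hxz hp ha) q hq.1 (f 0) hx0
        hq.2.2.symm e hp0.2.2.symm (S.line_commute hx0 hxz (hfive 0 (by simp)) ha))
  set g := g11 f with hg
  -- the conjugate of q by g does not commute with q
  have hq' : ¬ Commute (g * q * g⁻¹) q := by
    intro e
    have hd : ∀ i ∈ [0, 15, 16, 20, 24], f i ∈ dperp D p := fun i hi => by
      refine hpd _ (hfive i hi) ?_
      simp only [List.mem_cons, List.not_mem_nil, or_false] at hi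
      rcases hi with rfl | rfl | rfl | rfl | rfl
      exacts [Ne.symm hpn.1, Ne.symm hpn.2.1, Ne.symm hpn.2.2.1, Ne.symm hpn.2.2.2.1,
        Ne.symm hpn.2.2.2.2]
    have hh : f 15 * f 16 * (f 20 * f 24) ∈ even D p := mul_mem
      (S.mul_mem_even hp.1 (hd 15 (by simp)) (hd 16 (by simp))
        ((hR 15 (by norm_num) 16 (by norm_num)).2 (by decide +kernel)))
      (S.mul_mem_even hp.1 (hd 20 (by simp)) (hd 24 (by simp))
        ((hR 20 (by norm_num) 24 (by norm_num)).2 (by decide +kernel)))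
    set h := f 15 * f 16 * (f 20 * f 24) with hhdef
    have h1 := (commute_conj (f 0) _ _).2 (S.commute_conj_even hp.1 hh hq)
    have hga : f 0 * (h * q * h⁻¹) * (f 0)⁻¹ = g * q * g⁻¹ := by
      simp only [hhdef, hg, g11]; group
    rw [hga] at h1
    set a' := f 0 * q * (f 0)⁻¹ with ha'
    have hne : ¬ Commute q a' := fun e' => hqn _ (hfive 0 (by simp)) (Ne.symm hpn.1) <| by
      by_contra hn'
      have hb := braid S.hT hq.1 hx0 hn'
      rw [ha', inv_eq S.hT hx0, ← hb] at e'
      refine hn' ?_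
      have := (commute_conj q q (q * f 0 * q)).2 e'
      rwa [show q * q * q⁻¹ = q by group, inv_eq S.hT hq.1,
        show q * (q * f 0 * q) * q = (q * q) * f 0 * (q * q) by simp only [mul_assoc],
        mul_self S.hT hq.1, one_mul, mul_one] at this
    have hgp : Commute g p := by
      have c := fun i (hi : i ∈ [0, 15, 16, 20, 24]) => (hd i hi).2.2.symm
      exact ((((c 0 (by simp)).mul_left (c 15 (by simp))).mul_left (c 16 (by simp))).mul_left
        (c 20 (by simp))).mul_left (c 24 (by simp))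
    have hgq : g * q * g⁻¹ ∈ dperp D p := by
      have := dperp_conj S.hc g hq
      rwa [hgp.eq, mul_inv_cancel_right] at this
    have hap : a' ∈ dperp D p := by
      have := dperp_conj S.hc (f 0) hq
      rwa [(show Commute (f 0) p from hp0.2.2.symm).eq, mul_inv_cancel_right] at this
    by_cases heq : g * q * g⁻¹ = q
    · rw [heq] at h1
      exact hne h1
    · exact hne (S.lam p hp.1 _ hgq.1 (Ne.symm hgq.2.1) hgq.2.2 q hq.1 a' hap.1 hq.2.2.symm e.symm
        hap.2.2.symm h1.symm)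
  -- on each line a member commuting with q
  have hline : ∀ i : Fin 11, ∃ c ∈ D, Commute c q ∧ Commute c (g * q * g⁻¹) ∧
      ∀ b ∈ lines11.getD i [], Commute c (f b) ∧ c ≠ f b := by
    intro i
    set l := lines11.getD i [] with hl
    obtain ⟨a, b, c, d, e, hle, hbd⟩ : ∃ a b c d e : Fin 45,
        lines11.getD i [] = [(a : ℕ), b, c, d, e] ∧ [(a : ℕ), b, c, d, e].Nodup := by
      obtain ⟨h1, h2, h3⟩ := (by decide +kernel : ∀ i : Fin 11, (lines11.getD i []).length = 5 ∧
        (∀ a ∈ lines11.getD i [], a < 45) ∧ (lines11.getD i []).Nodup) i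
      generalize hgen : lines11.getD (i : ℕ) [] = r at h1 h2 h3
      match r, h1, h2, h3 with
      | [a, b, c, d, e], _, h2, h3 =>
        exact ⟨⟨a, h2 a (by simp)⟩, ⟨b, h2 b (by simp)⟩, ⟨c, h2 c (by simp)⟩, ⟨d, h2 d (by simp)⟩,
          ⟨e, h2 e (by simp)⟩, rfl, h3⟩
    have hlc : ∀ i : Fin 11, ∀ a ∈ lines11.getD i [], a < 45 ∧
        ∀ b ∈ lines11.getD i [], tabB.c a b = true := by decide +kernel
    have hc' : ∀ u ∈ l, ∀ w ∈ l, Commute (f u) (f w) := fun u hu w hw =>
      (hR u (hlc i u hu).1 w (hlc i w hw).1).2 ((hlc i u hu).2 w hw)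
    have hu : ∀ u ∈ [(a : ℕ), b, c, d, e], u ∈ l := fun u hu => by
      show u ∈ lines11.getD i []
      rw [hle]; exact hu
    have hab : f b ∈ dperp D (f a) := ⟨hM b b.2, fun h => by
      have := hI b b.2 a a.2 h
      simp [this] at hbd, hc' a (hu _ (by simp)) b (hu _ (by simp))⟩
    obtain ⟨w, hw, hwq⟩ := S.exists_on_line (hM a a.2) hab hq.1
    have hwl : ∀ u ∈ l, Commute w (f u) := fun u hu' =>
      S.line_commute (hM a a.2) hab hw
        ⟨hM u (hlc i u hu').1, hc' u hu' a (hu _ (by simp)), hc' u hu' b (hu _ (by simp))⟩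
    -- g is also the product of this line
    have hgl : g = f a * f b * f c * f d * f e := by
      obtain ⟨hs, hk⟩ := (by decide +kernel : ∀ i : Fin 11, via11.getD i 0 < 45 ∧
        List.Perm ([0, 15, 16, 20, 24].map (tabB.k (via11.getD i 0))) (lines11.getD i [])) i
      set s := via11.getD (i : ℕ) 0
      have h1 : f s * g * (f s)⁻¹ = g := by
        have := g11_conj F S.hT hs
        have hcm : g * f s = f s * g := by
          calc g * f s = g * f s * g⁻¹ * g := by group
            _ = f s * g := by rw [this]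
        rw [← hcm, mul_inv_cancel_right]
      have ek : ∀ u < 45, f s * f u * (f s)⁻¹ = f (tabB.k s u) := fun u hu => by
        rw [inv_eq S.hT (hM s hs)]; exact F.conj s (hn ▸ hs) u (hn ▸ hu)
      have h2 : g = (([0, 15, 16, 20, 24].map (tabB.k s)).map f).prod := by
        rw [← h1]
        simp only [List.map_cons, List.map_nil, List.prod_cons, List.prod_nil, mul_one,
          ← ek 0 (by norm_num), ← ek 15 (by norm_num), ← ek 16 (by norm_num), ← ek 20 (by norm_num),
          ← ek 24 (by norm_num), hg, g11]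
        group
      rw [h2, (hk.map f).prod_eq' ?_, hle]
      · simp [mul_assoc]
      · rw [List.pairwise_map]
        refine List.pairwise_of_forall_mem_list fun u hu w hw => ?_
        exact hc' u (hk.subset hu) w (hk.subset hw)
    have hwnot : ∀ u ∈ l, w ≠ f u := by
      intro u hu' heq
      subst heq
      by_cases hqu : q = f u
      · exact hq' (by rw [hqu, g11_conj F S.hT (hlc i u hu').1])
      have hd : ∀ z ∈ [(a : ℕ), b, c, d, e], z ≠ u → f z ∈ dperp D (f u) := fun z hz hne =>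
        ⟨hM z (hlc i z (hu z hz)).1, fun h =>
          hne (hI z (hlc i z (hu z hz)).1 u (hlc i u hu').1 h), hc' u hu' z (hu z hz)⟩
      have hqd : q ∈ dperp D (f u) := ⟨hq.1, hqu, hwq.symm⟩
      have em : ∀ z ∈ [(a : ℕ), b, c, d, e], ∀ z' ∈ [(a : ℕ), b, c, d, e], z ≠ u → z' ≠ u →
          f z * f z' ∈ even D (f u) := fun z hz z' hz' h1 h2 =>
        S.mul_mem_even (hM u (hlc i u hu').1) (hd z hz h1) (hd z' hz' h2)
          (hc' z (hu z hz) z' (hu z' hz'))
      -- g is u times an even product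
      have hsplit : ∃ h ∈ even D (f u), g = f u * h := by
        have hcc : ∀ z ∈ [(a : ℕ), b, c, d, e], ∀ z' ∈ [(a : ℕ), b, c, d, e],
            Commute (f z) (f z') := fun z hz z' hz' => hc' z (hu z hz) z' (hu z' hz')
        simp only [List.nodup_cons, List.mem_cons, List.not_mem_nil, or_false, not_or] at hbd
        obtain ⟨⟨nab, nac, nad, nae⟩, ⟨nbc, nbd, nbe⟩, ⟨ncd, nce⟩, nde, -⟩ := hbd
        rw [show l = [(a : ℕ), b, c, d, e] from hle] at hu'
        simp only [List.mem_cons, List.not_mem_nil, or_false] at hu'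
        rcases hu' with rfl | rfl | rfl | rfl | rfl
        · exact ⟨_, mul_mem (em b (by simp) c (by simp) (Ne.symm nab) (Ne.symm nac))
            (em d (by simp) e (by simp) (Ne.symm nad) (Ne.symm nae)), by rw [hgl]; group⟩
        · refine ⟨_, mul_mem (em a (by simp) c (by simp) nab (Ne.symm nbc))
            (em d (by simp) e (by simp) (Ne.symm nbd) (Ne.symm nbe)), ?_⟩
          rw [hgl, (hcc a (by simp) b (by simp)).eq]; group
        · refine ⟨_, mul_mem (em a (by simp) b (by simp) nac nbc)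
            (em d (by simp) e (by simp) (Ne.symm ncd) (Ne.symm nce)), ?_⟩
          rw [hgl, ((hcc c (by simp) a (by simp)).mul_right (hcc c (by simp) b (by simp))).eq.symm]
          group
        · refine ⟨_, mul_mem (em a (by simp) b (by simp) nad nbd)
            (em c (by simp) e (by simp) ncd (Ne.symm nde)), ?_⟩
          rw [hgl, (((hcc d (by simp) a (by simp)).mul_right (hcc d (by simp) b (by simp))).mul_right
            (hcc d (by simp) c (by simp))).eq.symm]
          group
        · refine ⟨_, mul_mem (em a (by simp) b (by simp) nae nbe)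
            (em c (by simp) d (by simp) nce nde), ?_⟩
          rw [hgl, ((((hcc e (by simp) a (by simp)).mul_right (hcc e (by simp) b (by simp))).mul_right
            (hcc e (by simp) c (by simp))).mul_right (hcc e (by simp) d (by simp))).eq.symm]
          group
      obtain ⟨h, hh, hgh⟩ := hsplit
      have hU := hM u (hlc i u hu').1
      have hcq := S.commute_conj_even hU hh hqd
      have hh' : Commute h (f u) := by
        obtain ⟨h', -, rfl⟩ := hh
        exact commute_of_mem_closure hU h'.2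
      have hfix : f u * (h * q * h⁻¹) * (f u)⁻¹ = h * q * h⁻¹ := by
        have hcu := (commute_conj h _ _).2 hqd.2.2
        rw [hh'.eq, mul_inv_cancel_right] at hcu
        rw [hcu.eq, mul_inv_cancel_right]
      apply hq'
      rw [hgh, show f u * h * q * (f u * h)⁻¹ = f u * (h * q * h⁻¹) * (f u)⁻¹ by group, hfix]
      exact hcq
    have hgw : Commute g w := by
      rw [hgl]
      have c' := fun u (hu' : u ∈ [(a : ℕ), b, c, d, e]) => (hwl u (hu u hu')).symm
      exact ((((c' a (by simp)).mul_left (c' b (by simp))).mul_left (c' c (by simp))).mul_left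
        (c' d (by simp))).mul_left (c' e (by simp))
    refine ⟨w, hw.1, hwq.symm, ?_, fun u hu' => ⟨hwl u hu', hwnot u hu'⟩⟩
    have := (commute_conj g w q).2 hwq.symm
    rwa [hgw.eq, mul_inv_cancel_right] at this
  choose c hcD hcq hcq' hcl using hline
  have hinj : Function.Injective c := by
    intro i j hij
    by_contra hne
    obtain ⟨a, ha, a', ha', b, hb, h1, h2⟩ := (by decide +kernel : ∀ i j : Fin 11, i ≠ j →
      ∃ a ∈ lines11.getD i [], ∃ a' ∈ lines11.getD i [], ∃ b ∈ lines11.getD j [],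
        tabB.c a b = true ∧ tabB.c a' b = false) i j hne
    have hlt' : ∀ i : Fin 11, ∀ a ∈ lines11.getD i [], a < 45 := by decide +kernel
    obtain ⟨e1, n1⟩ := hcl i a ha
    obtain ⟨e2, -⟩ := hcl i a' ha'
    obtain ⟨e3, -⟩ := hcl j b hb
    rw [← hij] at e3
    have haa : tabB.c a' a = true := (by decide +kernel : ∀ i : Fin 11, ∀ a ∈ lines11.getD i [],
      ∀ b ∈ lines11.getD i [], tabB.c a b = true) i a' ha' a ha
    refine absurd ((hR a' (hlt' i a' ha') b (hlt' j b hb)).1 (S.lam (c i) (hcD i) (f a)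
      (hM a (hlt' i a ha)) n1 e1 (f a') (hM a' (hlt' i a' ha')) (f b) (hM b (hlt' j b hb)) e2.symm
      ((hR a' (hlt' i a' ha') a (hlt' i a ha)).2 haa) e3.symm
      ((hR a (hlt' i a ha) b (hlt' j b hb)).2 h1).symm)) (by simp [h2])
  have hq'D : g * q * g⁻¹ ∈ D := S.hc g q hq.1
  have hsub : Set.range c ⊆ trace D q (g * q * g⁻¹) := by
    rintro _ ⟨i, rfl⟩
    exact ⟨hcD i, hcq i, hcq' i⟩
  have hnc : ¬ Commute q (g * q * g⁻¹) := fun e => hq' e.symm
  have hcard := (Set.ncard_le_ncard hsub (Set.toFinite _)).trans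
    (hN q hq.1 _ (S.trace_subset hq.1 hq'D hnc) (S.trace_indep hq.1 hq'D hnc))
  rw [← Set.image_univ, Set.ncard_image_of_injective _ hinj, Set.ncard_univ, Nat.card_fin] at hcard
  omega

/-- On a line of five members the fifth commutes with a member commuting with none of the others. -/
theorem five (h5 : ∀ a ∈ D, ∀ b ∈ dperp D a, (lineSet D a b).ncard = 5) : Five D := by
  intro a ha b hb c hc d hd e he x hx hab hac had hae hbc hbd hbe _ _ _ hnd nxa nxb nxc nxd
  simp only [List.nodup_cons, List.mem_cons, List.not_mem_nil, or_false, not_or] at hnd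
  obtain ⟨⟨nab, nac, nad, nae⟩, ⟨nbc, nbd, nbe⟩, ⟨ncd, nce⟩, nde, -⟩ := hnd
  have hba : b ∈ dperp D a := ⟨hb, Ne.symm nab, hab⟩
  have hsub : ({a, b, c, d, e} : Set G) ⊆ lineSet D a b := by
    rintro u (rfl | rfl | rfl | rfl | rfl)
    exacts [S.mem_lineSet_left ha hba, S.mem_lineSet_right hba, ⟨hc, hac.symm, hbc.symm⟩,
      ⟨hd, had.symm, hbd.symm⟩, ⟨he, hae.symm, hbe.symm⟩]
  have hcard : ({a, b, c, d, e} : Set G).ncard = 5 := by
    rw [Set.ncard_insert_of_notMem (by simp [nab, nac, nad, nae]) (Set.toFinite _),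
      Set.ncard_insert_of_notMem (by simp [nbc, nbd, nbe]) (Set.toFinite _),
      Set.ncard_insert_of_notMem (by simp [ncd, nce]) (Set.toFinite _),
      Set.ncard_insert_of_notMem (by simp [nde]) (Set.toFinite _), Set.ncard_singleton]
  have heq := Set.eq_of_subset_of_ncard_le hsub (by rw [hcard, h5 a ha b hba]) (Set.toFinite _)
  obtain ⟨w, hw, hwc⟩ := S.exists_on_line ha hba hx
  rw [← heq] at hw
  rcases hw with rfl | rfl | rfl | rfl | rfl
  exacts [absurd hwc nxa, absurd hwc nxb, absurd hwc nxc, absurd hwc nxd, hwc]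

end Pre

end Cfsg.Agent.LocalLines
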