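import Cfsg.Agent.LocalLines.Basic

/-!
# Derivations about a set of 3-transpositions with lines

A list of steps, checked by a function on bit sets, derives from a few commuting relations among
given members the commuting relations and conjugates of many named members.
-/

set_option autoImplicit false

open Cfsg

namespace Cfsg.Agent.LocalLines

open Cfsg.Agent.ThreeTrans

/-- A table of commuting relations and conjugates, each row packed in a number. -/
structure Table where
  n : ℕ
  com : ℕ → ℕ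
  cj : ℕ → ℕ

/-- The commuting relation of the table. -/
def Table.c (M : Table) (a b : ℕ) : Bool := (M.com a).testBit b

/-- The conjugate of `b` by `a` in the table. -/
def Table.k (M : Table) (a b : ℕ) : ℕ := (M.cj a >>> (8 * b)) &&& 255

/-- What has been derived. -/
structure St where
  df : ℕ
  r : ℕ
  t : ℕ
deriving DecidableEq

/-- Reading a relation bit. -/
def bget (s a b : ℕ) : Bool := Nat.blt a 256 && Nat.blt b 256 && s.testBit (a * 256 + b)

/-- Setting a relation bit. -/
def bset (s a b : ℕ) : ℕ := if Nat.blt a 256 && Nat.blt b 256 then s ||| 2 ^ (a * 256 + b) else s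

theorem bget_bset {s a b i j : ℕ} (h : bget (bset s a b) i j = true) :
    bget s i j = true ∨ (i = a ∧ j = b) := by
  unfold bget bset at *
  split_ifs at h with hc
  · simp only [Bool.and_eq_true, Nat.blt_eq, Nat.testBit_lor, Bool.or_eq_true,
      Nat.testBit_two_pow, decide_eq_true_eq] at h hc ⊢
    obtain ⟨⟨hi, hj⟩, h | h⟩ := h
    · exact Or.inl ⟨⟨hi, hj⟩, h⟩
    · right; omega
  · exact Or.inl h

namespace St

variable (M : Table) (s : St)

/-- Both bits of a relation. -/
def setR (a b : ℕ) : St := { s with r := bset (bset s.r a b) b a }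

/-- The conjugate of `b` by `a`, when known. -/
def img (a b : ℕ) : Option ℕ :=
  if bget s.r a b && M.c a b then some b else if bget s.t a b then some (M.k a b) else none

/-- Whether a witness tells `a` from `b`. -/
def dist (a b w : ℕ) : Bool := bget s.r w a && bget s.r w b && (M.c w a != M.c w b)

/-- Whether `a` and `b` are known to commute. -/
def yes (a b : ℕ) : Bool := bget s.r a b && M.c a b

/-- Whether `a` and `b` are known not to commute. -/
def no (a b : ℕ) : Bool := bget s.r a b && !M.c a b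

/-- The table is consistent on the three members `a`, `b`, `c`. -/
def triOk (a b c : ℕ) : Bool :=
  M.k a b == c && M.k b a == c && M.k a c == b && M.k c a == b && M.k b c == a && M.k c b == a &&
    !M.c a b && !M.c b a && !M.c a c && !M.c c a && !M.c b c && !M.c c b

/-- Record a triple. -/
def setT (a b c : ℕ) : St :=
  { df := s.df
    r := bset (bset (bset (bset (bset (bset s.r a b) b a) a c) c a) b c) c b
    t := bset (bset (bset (bset (bset (bset s.t a b) b a) a c) c a) b c) c b }

end St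

/-- Derivation steps. -/
inductive Step where
  | defn (a b : ℕ)
  | tr (a b c : ℕ)
  | fixed (a b c : ℕ)
  | conj (a b c : ℕ)
  | cl (a b w u c : ℕ)
  | cln (a b c w u : ℕ)
  | gq (a b c d e x : ℕ) (ws : List ℕ)
  | proj (a r p q u w : ℕ)

/-- One step. -/
def Step.run (M : Table) (five : Bool) (s : St) : Step → Option St
  | .defn a b =>
    let c := M.k a b
    if s.no M a b && !s.df.testBit c && St.triOk M a b c && M.c c c then
      let s' : St := { s with df := s.df ||| 2 ^ c }
      some ((s'.setR c c).setT a b c)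
    else none
  | .tr a b c =>
    match s.img M a b, s.img M a c with
    | some b', some c' =>
      if bget s.r b c && (M.c b c == M.c b' c') && (M.c c b == M.c b c) && (M.c c' b' == M.c b' c')
      then some (s.setR b' c') else none
    | _, _ => none
  | .fixed a b c =>
    match s.img M a b, s.img M a c with
    | some b', some c' =>
      let d := M.k b c
      if bget s.t b c && bget s.t b' c' && M.k b' c' == d && M.c a d && M.c d a
      then some (s.setR a d) else none
    | _, _ => none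
  | .conj a b c =>
    match s.img M a b, s.img M a c with
    | some b', some c' =>
      let d := M.k b c
      let d' := M.k b' c'
      if bget s.t b c && bget s.t b' c' && s.no M a d && St.triOk M a d d'
      then some (s.setT a d d') else none
    | _, _ => none
  | .cl a b w u c =>
    if s.yes M a b && s.dist M a b w && s.yes M u a && s.yes M u b && s.yes M c a && s.yes M c b
      && M.c u c && M.c c u then some (s.setR u c) else none
  | .cln a b c w u =>
    if s.yes M a b && s.yes M a c && s.yes M b c && s.dist M a c w && s.yes M u a && s.no M u b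
      && !M.c u c && !M.c c u then some (s.setR u c) else none
  | .gq a b c d e x ws =>
    match ws with
    | [w1, w2, w3, w4, w5, w6, w7, w8, w9, w10] =>
      if five && s.yes M a b && s.yes M a c && s.yes M a d && s.yes M a e && s.yes M b c && s.yes M b d
        && s.yes M b e && s.yes M c d && s.yes M c e && s.yes M d e
        && s.dist M a b w1 && s.dist M a c w2 && s.dist M a d w3 && s.dist M a e w4 && s.dist M b c w5
        && s.dist M b d w6 && s.dist M b e w7 && s.dist M c d w8 && s.dist M c e w9 && s.dist M d e w10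
        && s.no M x a && s.no M x b && s.no M x c && s.no M x d
        && M.c x e && M.c e x then some (s.setR x e) else none
    | _ => none
  | .proj a r p q u w =>
    match s.img M a p, s.img M a q, s.img M a u with
    | some p', some q', some u' =>
      let r' := M.k a r
      if s.no M a r && bget s.r r' r' && St.triOk M a r r'
        && s.yes M r p && s.yes M r q && s.yes M r u && s.yes M p q && s.dist M p q w && s.no M u p
        && s.yes M r' p' && s.yes M r' q' && s.yes M r' u' then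
        some (s.setT a r r')
      else none
    | _, _, _ => none

/-- All steps in turn. -/
def runAll (M : Table) (five : Bool) : List Step → St → Option St
  | [], s => some s
  | p :: ps, s => (p.run M five s).bind (runAll M five ps)

variable {G : Type*} [Group G] {D : Set G}

/-- The derived statements hold for the members `f i`. -/
structure Inv (D : Set G) (M : Table) (f : ℕ → G) (s : St) : Prop where
  mem : ∀ a, s.df.testBit a = true → f a ∈ D
  rel : ∀ a b, bget s.r a b = true →
    s.df.testBit a = true ∧ s.df.testBit b = true ∧ (Commute (f a) (f b) ↔ M.c a b = true)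
  tri : ∀ a b, bget s.t a b = true →
    s.df.testBit a = true ∧ s.df.testBit b = true ∧ s.df.testBit (M.k a b) = true ∧
      f a * f b * f a = f (M.k a b)

/-- Five distinct pairwise commuting members and a member commuting with none of the first four. -/
def Five (D : Set G) : Prop :=
  ∀ a ∈ D, ∀ b ∈ D, ∀ c ∈ D, ∀ d ∈ D, ∀ e ∈ D, ∀ x ∈ D,
    Commute a b → Commute a c → Commute a d → Commute a e → Commute b c → Commute b d → Commute b e →
    Commute c d → Commute c e → Commute d e → [a, b, c, d, e].Nodup →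
    ¬ Commute x a → ¬ Commute x b → ¬ Commute x c → ¬ Commute x d → Commute x e

namespace Inv

variable {M : Table} {f : ℕ → G} {s : St} (I : Inv D M f s)
include I

theorem yes {a b : ℕ} (h : s.yes M a b = true) : f a ∈ D ∧ f b ∈ D ∧ Commute (f a) (f b) := by
  rw [St.yes, Bool.and_eq_true] at h
  obtain ⟨h1, h2, h3⟩ := I.rel a b h.1
  exact ⟨I.mem a h1, I.mem b h2, h3.2 h.2⟩

theorem no {a b : ℕ} (h : s.no M a b = true) : f a ∈ D ∧ f b ∈ D ∧ ¬ Commute (f a) (f b) := by
  rw [St.no, Bool.and_eq_true, Bool.not_eq_true'] at h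
  obtain ⟨h1, h2, h3⟩ := I.rel a b h.1
  refine ⟨I.mem a h1, I.mem b h2, fun hc => ?_⟩
  rw [h3.1 hc] at h
  exact absurd h.2 (by decide)

theorem dist {a b w : ℕ} (h : s.dist M a b w = true) : f a ≠ f b := by
  rw [St.dist, Bool.and_eq_true, Bool.and_eq_true, bne_iff_ne] at h
  obtain ⟨⟨h1, h2⟩, h3⟩ := h
  intro e
  apply h3
  have e1 := (I.rel w a h1).2.2
  rw [e, (I.rel w b h2).2.2] at e1
  exact (Bool.eq_iff_iff.2 e1).symm

theorem setR {a b : ℕ} (ha : s.df.testBit a = true) (hb : s.df.testBit b = true)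
    (h : Commute (f a) (f b) ↔ M.c a b = true) (h' : Commute (f a) (f b) ↔ M.c b a = true) :
    Inv D M f (s.setR a b) := by
  refine ⟨I.mem, fun i j hij => ?_, I.tri⟩
  rcases bget_bset hij with hij | ⟨rfl, rfl⟩
  · rcases bget_bset hij with hij | ⟨rfl, rfl⟩
    · exact I.rel i j hij
    · exact ⟨ha, hb, h⟩
  · exact ⟨hb, ha, ⟨fun h2 => h'.1 h2.symm, fun h2 => (h'.2 h2).symm⟩⟩

theorem img (hT : IsThreeTranspositionSet D) {a b b' : ℕ} (h : s.img M a b = some b') :
    s.df.testBit a = true ∧ s.df.testBit b = true ∧ s.df.testBit b' = true ∧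
      f a * f b * f a = f b' := by
  unfold St.img at h
  split_ifs at h with h1 h2
  · obtain rfl := Option.some.inj h
    rw [Bool.and_eq_true] at h1
    obtain ⟨ha, hb, hc⟩ := I.rel a b h1.1
    exact ⟨ha, hb, hb, conj_self_of_commute hT (I.mem a ha) (hc.2 h1.2)⟩
  · obtain rfl := Option.some.inj h
    exact I.tri a b h2

theorem setT (hT : IsThreeTranspositionSet D) {a b c : ℕ} (ha : s.df.testBit a = true)
    (hb : s.df.testBit b = true) (hc : s.df.testBit c = true) (hok : St.triOk M a b c = true)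
    (hab : ¬ Commute (f a) (f b)) (h : f a * f b * f a = f c) : Inv D M f (s.setT a b c) := by
  simp only [St.triOk, Bool.and_eq_true, beq_iff_eq, Bool.not_eq_true'] at hok
  obtain ⟨⟨⟨⟨⟨⟨⟨⟨⟨⟨⟨k1, k2⟩, k3⟩, k4⟩, k5⟩, k6⟩, c1⟩, c2⟩, c3⟩, c4⟩, c5⟩, c6⟩ := hok
  have hA := I.mem a ha
  have hB := I.mem b hb
  have hC := I.mem c hc
  have h' : f b * f a * f b = f c := by rw [← h, braid hT hA hB hab]
  have hac : f a * f c * f a = f b := by
    rw [← h]; simp only [← mul_assoc, mul_self hT hA, one_mul, mul_mul_self hT hA]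
  have hbc : f b * f c * f b = f a := by
    rw [← h']; simp only [← mul_assoc, mul_self hT hB, one_mul, mul_mul_self hT hB]
  have nac : ¬ Commute (f a) (f c) := fun e => by
    rw [conj_self_of_commute hT hA e] at hac
    rw [hac, conj_self_of_commute hT hB (Commute.refl _)] at hbc
    exact hab (hbc ▸ Commute.refl _)
  have nbc : ¬ Commute (f b) (f c) := fun e => by
    rw [conj_self_of_commute hT hB e] at hbc
    rw [hbc, conj_self_of_commute hT hA (Commute.refl _)] at hac
    exact hab (hac ▸ Commute.refl _)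
  have hca : f c * f a * f c = f b := by rw [← braid hT hA hC nac, hac]
  have hcb : f c * f b * f c = f a := by rw [← braid hT hB hC nbc, hbc]
  have fr : ∀ {p q : G} {x : Bool}, ¬ Commute p q → x = false → (Commute p q ↔ x = true) :=
    fun hn hx => ⟨fun e => absurd e hn, fun e => absurd (hx ▸ e) (by decide)⟩
  refine ⟨I.mem, fun i j hij => ?_, fun i j hij => ?_⟩
  · rcases bget_bset hij with hij | ⟨rfl, rfl⟩
    rcases bget_bset hij with hij | ⟨rfl, rfl⟩
    rcases bget_bset hij with hij | ⟨rfl, rfl⟩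
    rcases bget_bset hij with hij | ⟨rfl, rfl⟩
    rcases bget_bset hij with hij | ⟨rfl, rfl⟩
    rcases bget_bset hij with hij | ⟨rfl, rfl⟩
    · exact I.rel i j hij
    · exact ⟨ha, hb, fr hab c1⟩
    · exact ⟨hb, ha, fr (fun e => hab e.symm) c2⟩
    · exact ⟨ha, hc, fr nac c3⟩
    · exact ⟨hc, ha, fr (fun e => nac e.symm) c4⟩
    · exact ⟨hb, hc, fr nbc c5⟩
    · exact ⟨hc, hb, fr (fun e => nbc e.symm) c6⟩
  · rcases bget_bset hij with hij | ⟨rfl, rfl⟩
    rcases bget_bset hij with hij | ⟨rfl, rfl⟩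
    rcases bget_bset hij with hij | ⟨rfl, rfl⟩
    rcases bget_bset hij with hij | ⟨rfl, rfl⟩
    rcases bget_bset hij with hij | ⟨rfl, rfl⟩
    rcases bget_bset hij with hij | ⟨rfl, rfl⟩
    · exact I.tri i j hij
    · rw [k1]; exact ⟨ha, hb, hc, h⟩
    · rw [k2]; exact ⟨hb, ha, hc, h'⟩
    · rw [k3]; exact ⟨ha, hc, hb, hac⟩
    · rw [k4]; exact ⟨hc, ha, hb, hca⟩
    · rw [k5]; exact ⟨hb, hc, ha, hbc⟩
    · rw [k6]; exact ⟨hc, hb, ha, hcb⟩

theorem step (hD : IsThreeTranspositionSet D) (hc : ∀ g : G, ∀ d ∈ D, g * d * g⁻¹ ∈ D) (hL : Lam D)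
    {five : Bool} (h5 : five = true → Five D) {p : Step} {s' : St}
    (hp : p.run M five s = some s') :
    ∃ f', (∀ a, s.df.testBit a = true → f' a = f a ∧ s'.df.testBit a = true) ∧ Inv D M f' s' := by
  have keep : ∀ {t : St}, t.df = s.df → Inv D M f t →
      ∃ f', (∀ a, s.df.testBit a = true → f' a = f a ∧ t.df.testBit a = true) ∧ Inv D M f' t :=
    fun ht hI => ⟨f, fun a ha => ⟨rfl, ht ▸ ha⟩, hI⟩
  cases p with
  | defn a b =>
    simp only [Step.run] at hp
    split_ifs at hp with hcond
    obtain rfl := Option.some.inj hp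
    simp only [Bool.and_eq_true, Bool.not_eq_true'] at hcond
    obtain ⟨⟨⟨hno, hfresh⟩, hok⟩, hcc⟩ := hcond
    set c := M.k a b with hcdef
    obtain ⟨hA, hB, hab⟩ := I.no hno
    have hd := (Bool.and_eq_true _ _).mp hno
    obtain ⟨ha, hb, -⟩ := I.rel a b hd.1
    have hne : ∀ i, s.df.testBit i = true → i ≠ c := fun i hi e => by
      rw [e, hfresh] at hi; exact absurd hi (by decide)
    let f' := Function.update f c (f a * f b * f a)
    have hf : ∀ i, s.df.testBit i = true → f' i = f i := fun i hi =>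
      Function.update_of_ne (hne i hi) _ _
    have hfc : f' c = f a * f b * f a := Function.update_self c _ f
    let s' : St := { s with df := s.df ||| 2 ^ c }
    have hdf : ∀ i, s'.df.testBit i = true ↔ (s.df.testBit i = true ∨ i = c) := fun i => by
      show (s.df ||| 2 ^ c).testBit i = true ↔ _
      rw [Nat.testBit_lor, Nat.testBit_two_pow, Bool.or_eq_true, decide_eq_true_eq]
      exact or_congr Iff.rfl eq_comm
    have I' : Inv D M f' s' := by
      refine ⟨fun i hi => ?_, fun i j hij => ?_, fun i j hij => ?_⟩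
      · rcases (hdf i).1 hi with hi | rfl
        · rw [hf i hi]; exact I.mem i hi
        · rw [hfc]; exact conj_mem hD hc hA hB
      · obtain ⟨h1, h2, h3⟩ := I.rel i j hij
        rw [hf i h1, hf j h2]
        exact ⟨(hdf i).2 (Or.inl h1), (hdf j).2 (Or.inl h2), h3⟩
      · obtain ⟨h1, h2, h3, h4⟩ := I.tri i j hij
        rw [hf i h1, hf j h2, hf _ h3]
        exact ⟨(hdf i).2 (Or.inl h1), (hdf j).2 (Or.inl h2), (hdf _).2 (Or.inl h3), h4⟩
    have hc' : s'.df.testBit c = true := (hdf c).2 (Or.inr rfl)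
    have I'' := I'.setR hc' hc' ⟨fun _ => hcc, fun _ => Commute.refl _⟩
      ⟨fun _ => hcc, fun _ => Commute.refl _⟩
    refine ⟨f', fun i hi => ⟨hf i hi, (hdf i).2 (Or.inl hi)⟩, I''.setT hD ((hdf a).2 (Or.inl ha))
      ((hdf b).2 (Or.inl hb)) hc' hok ?_ ?_⟩
    · rw [hf a ha, hf b hb]; exact hab
    · rw [hf a ha, hf b hb, hfc]
  | tr a b c =>
    simp only [Step.run] at hp
    split at hp
    next b' c' hb hc0 =>
      split_ifs at hp with hcond
      obtain rfl := Option.some.inj hp
      simp only [Bool.and_eq_true, beq_iff_eq] at hcond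
      obtain ⟨⟨⟨h1, h2⟩, h3⟩, h4⟩ := hcond
      obtain ⟨ha, -, hb', eb⟩ := I.img hD hb
      obtain ⟨-, -, hc', ec⟩ := I.img hD hc0
      obtain ⟨-, -, h⟩ := I.rel b c h1
      have h' : Commute (f b') (f c') ↔ M.c b c = true := by
        rw [← eb, ← ec, ← h]
        conv_lhs => arg 1; rw [show f a * f b * f a = f a * f b * (f a)⁻¹ by rw [inv_eq hD (I.mem a ha)]]
        conv_lhs => arg 2; rw [show f a * f c * f a = f a * f c * (f a)⁻¹ by rw [inv_eq hD (I.mem a ha)]]
        exact commute_conj _ _ _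
      exact keep rfl (I.setR hb' hc' (h2 ▸ h') (by rw [h4]; exact h2 ▸ h'))
    next => simp at hp
  | fixed a b c =>
    simp only [Step.run] at hp
    split at hp
    next b' c' hb hc0 =>
      split_ifs at hp with hcond
      obtain rfl := Option.some.inj hp
      simp only [Bool.and_eq_true, beq_iff_eq] at hcond
      obtain ⟨⟨⟨⟨h1, h2⟩, h3⟩, h4⟩, h5'⟩ := hcond
      obtain ⟨ha, -, hb', eb⟩ := I.img hD hb
      obtain ⟨-, -, hc', ec⟩ := I.img hD hc0
      obtain ⟨-, -, hd, ed⟩ := I.tri b c h1
      obtain ⟨-, -, -, ed'⟩ := I.tri b' c' h2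
      rw [h3] at ed'
      have haa := mul_self hD (I.mem a ha)
      have e : f a * f (M.k b c) * f a = f (M.k b c) := by
        conv_rhs => rw [← ed', ← eb, ← ec]
        rw [← ed]
        simp only [mul_assoc]
        simp only [mul_self_mul hD (I.mem a ha)]
      have hcom : Commute (f a) (f (M.k b c)) := by
        show f a * f (M.k b c) = f (M.k b c) * f a
        conv_rhs => rw [← e, mul_mul_self hD (I.mem a ha)]
      exact keep rfl (I.setR ha hd ⟨fun _ => h4, fun _ => hcom⟩ ⟨fun _ => h5', fun _ => hcom⟩)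
    next => simp at hp
  | conj a b c =>
    simp only [Step.run] at hp
    split at hp
    next b' c' hb hc0 =>
      split_ifs at hp with hcond
      obtain rfl := Option.some.inj hp
      simp only [Bool.and_eq_true] at hcond
      obtain ⟨⟨⟨h1, h2⟩, h3⟩, h4⟩ := hcond
      obtain ⟨ha, -, hb', eb⟩ := I.img hD hb
      obtain ⟨-, -, hc', ec⟩ := I.img hD hc0
      obtain ⟨-, -, hd, ed⟩ := I.tri b c h1
      obtain ⟨-, -, hd', ed'⟩ := I.tri b' c' h2
      obtain ⟨-, -, hn⟩ := I.no h3
      refine keep rfl (I.setT hD ha hd hd' h4 hn ?_)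
      conv_rhs => rw [← ed', ← eb, ← ec]
      rw [← ed]
      simp only [mul_assoc]
      simp only [mul_self_mul hD (I.mem a ha)]
    next => simp at hp
  | cl a b w u c =>
    simp only [Step.run] at hp
    split_ifs at hp with hcond
    obtain rfl := Option.some.inj hp
    simp only [Bool.and_eq_true] at hcond
    obtain ⟨⟨⟨⟨⟨⟨⟨h1, h2⟩, h3⟩, h4⟩, h5'⟩, h6⟩, h7⟩, h8⟩ := hcond
    obtain ⟨hA, hB, hab⟩ := I.yes h1
    obtain ⟨hU, -, hua⟩ := I.yes h3
    obtain ⟨hC, -, hca⟩ := I.yes h5'
    have hcom := hL _ hA _ hB (I.dist h2) hab _ hU _ hC hua (I.yes h4).2.2 hca (I.yes h6).2.2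
    exact keep rfl (I.setR (I.rel u a ((Bool.and_eq_true _ _).mp h3).1).1
      (I.rel c a ((Bool.and_eq_true _ _).mp h5').1).1 ⟨fun _ => h7, fun _ => hcom⟩
      ⟨fun _ => h8, fun _ => hcom⟩)
  | cln a b c w u =>
    simp only [Step.run] at hp
    split_ifs at hp with hcond
    obtain rfl := Option.some.inj hp
    simp only [Bool.and_eq_true, Bool.not_eq_true'] at hcond
    obtain ⟨⟨⟨⟨⟨⟨⟨h1, h2⟩, h3⟩, h4⟩, h5'⟩, h6⟩, h7⟩, h8⟩ := hcond
    obtain ⟨hA, hB, hab⟩ := I.yes h1
    obtain ⟨-, hC, hac⟩ := I.yes h2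
    obtain ⟨-, -, hbc⟩ := I.yes h3
    obtain ⟨hU, -, hua⟩ := I.yes h5'
    obtain ⟨-, -, hub⟩ := I.no h6
    have hcom : ¬ Commute (f u) (f c) := fun e =>
      hub (hL _ hA _ hC (I.dist h4) hac _ hU _ hB hua e hab.symm hbc)
    exact keep rfl (I.setR (I.rel u a ((Bool.and_eq_true _ _).mp h5').1).1
      (I.rel a c ((Bool.and_eq_true _ _).mp h2).1).2.1
      ⟨fun e => absurd e hcom, fun e => absurd (h7.symm.trans e) (by decide)⟩
      ⟨fun e => absurd e hcom, fun e => absurd (h8.symm.trans e) (by decide)⟩)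
  | gq a b c d e x ws =>
    simp only [Step.run] at hp
    split at hp
    next w1 w2 w3 w4 w5 w6 w7 w8 w9 w10 =>
      split_ifs at hp with hcond
      obtain rfl := Option.some.inj hp
      simp only [Bool.and_eq_true] at hcond
      obtain ⟨⟨⟨⟨⟨⟨⟨⟨⟨⟨⟨⟨⟨⟨⟨⟨⟨⟨⟨⟨⟨⟨⟨⟨⟨⟨h0, y1⟩, y2⟩, y3⟩, y4⟩, y5⟩, y6⟩, y7⟩, y8⟩, y9⟩, y10⟩,
        d1⟩, d2⟩, d3⟩, d4⟩, d5⟩, d6⟩, d7⟩, d8⟩, d9⟩, d10⟩, n1⟩, n2⟩, n3⟩, n4⟩, h1⟩, h2⟩ := hcond
      obtain ⟨hA, hB, q1⟩ := I.yes y1
      obtain ⟨-, hC, q2⟩ := I.yes y2
      obtain ⟨-, hDd, q3⟩ := I.yes y3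
      obtain ⟨-, hE, q4⟩ := I.yes y4
      obtain ⟨hX, -, m1⟩ := I.no n1
      have hnd : [f a, f b, f c, f d, f e].Nodup := by
        simp [I.dist d1, I.dist d2, I.dist d3, I.dist d4, I.dist d5, I.dist d6, I.dist d7,
          I.dist d8, I.dist d9, I.dist d10]
      have hcom := h5 h0 _ hA _ hB _ hC _ hDd _ hE _ hX q1 q2 q3 q4 (I.yes y5).2.2 (I.yes y6).2.2
        (I.yes y7).2.2 (I.yes y8).2.2 (I.yes y9).2.2 (I.yes y10).2.2 hnd m1 (I.no n2).2.2 (I.no n3).2.2
        (I.no n4).2.2
      exact keep rfl (I.setR (I.rel x a ((Bool.and_eq_true _ _).mp n1).1).1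
        (I.rel a e ((Bool.and_eq_true _ _).mp y4).1).2.1 ⟨fun _ => h1, fun _ => hcom⟩
        ⟨fun _ => h2, fun _ => hcom⟩)
    next => simp at hp
  | proj a r p q u w =>
    simp only [Step.run] at hp
    split at hp
    next p' q' u' hp' hq' hu' =>
      split_ifs at hp with hcond
      obtain rfl := Option.some.inj hp
      simp only [Bool.and_eq_true] at hcond
      obtain ⟨⟨⟨⟨⟨⟨⟨⟨⟨⟨⟨ra, rr'⟩, htri⟩, y1⟩, y2⟩, y3⟩, y4⟩, hd⟩, hn⟩, z1⟩, z2⟩, z3⟩ := hcond
      set r' := M.k a r
      obtain ⟨ha, hr, -⟩ := I.rel a r ((Bool.and_eq_true _ _).mp ra).1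
      obtain ⟨hr2, -, -⟩ := I.rel r' r' rr'
      obtain ⟨-, -, har⟩ := I.no ra
      obtain ⟨-, -, hP', ep⟩ := I.img hD hp'
      obtain ⟨-, -, hQ', eq'⟩ := I.img hD hq'
      obtain ⟨-, -, -, eu⟩ := I.img hD hu'
      have hA := I.mem a ha
      have cc : ∀ v w : G, Commute (f a * v * f a) (f a * w * f a) ↔ Commute v w := fun v w => by
        conv_lhs => arg 1; rw [show f a * v * f a = f a * v * (f a)⁻¹ by rw [inv_eq hD hA]]
        conv_lhs => arg 2; rw [show f a * w * f a = f a * w * (f a)⁻¹ by rw [inv_eq hD hA]]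
        exact commute_conj _ _ _
      set X := f a * f r * f a with hX
      have hXD : X ∈ D := conj_mem hD hc hA (I.mem r hr)
      have x1 : Commute X (f p') := by rw [← ep, hX, cc]; exact (I.yes y1).2.2
      have x2 : Commute X (f q') := by rw [← eq', hX, cc]; exact (I.yes y2).2.2
      have x3 : Commute X (f u') := by rw [← eu, hX, cc]; exact (I.yes y3).2.2
      have hpq : f p' ≠ f q' := by
        rw [← ep, ← eq']
        exact fun e => I.dist hd (mul_left_cancel (mul_right_cancel e))
      have hpqc : Commute (f p') (f q') := by rw [← ep, ← eq', cc]; exact (I.yes y4).2.2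
      have hup : ¬ Commute (f u') (f p') := by rw [← eu, ← ep, cc]; exact (I.no hn).2.2
      obtain ⟨hR', hP2, x4⟩ := I.yes z1
      obtain ⟨-, hQ2, x5⟩ := I.yes z2
      obtain ⟨-, hU2, x6⟩ := I.yes z3
      have hXY : X = f r' := by
        by_contra hne
        have hcom := hL _ hP2 _ hQ2 hpq hpqc _ hXD _ hR' x1 x2 x4 x5
        exact hup (hL _ hXD _ hR' hne hcom _ hU2 _ hP2 x3.symm x6.symm x1.symm x4.symm)
      exact keep rfl (I.setT hD ha hr hr2 htri har hXY)
    next => simp at hp

end Inv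

theorem Inv.runAll {M : Table} (hD : IsThreeTranspositionSet D)
    (hc : ∀ g : G, ∀ d ∈ D, g * d * g⁻¹ ∈ D) (hL : Lam D) {five : Bool}
    (h5 : five = true → Five D) : ∀ {ps : List Step} {f : ℕ → G} {s s' : St},
      Inv D M f s → LocalLines.runAll M five ps s = some s' →
      ∃ f', (∀ a, s.df.testBit a = true → f' a = f a ∧ s'.df.testBit a = true) ∧ Inv D M f' s' := by
  intro ps
  induction ps with
  | nil =>
    intro f s s' I h
    obtain rfl := Option.some.inj h
    exact ⟨f, fun a ha => ⟨rfl, ha⟩, I⟩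
  | cons p ps ih =>
    intro f s s' I h
    obtain ⟨s1, h1, h2⟩ := Option.bind_eq_some_iff.1 h
    obtain ⟨f1, hf1, I1⟩ := I.step hD hc hL h5 h1
    obtain ⟨f2, hf2, I2⟩ := ih I1 h2
    exact ⟨f2, fun a ha => ⟨(hf2 a (hf1 a ha).2).1.trans (hf1 a ha).1, (hf2 a (hf1 a ha).2).2⟩, I2⟩

end Cfsg.Agent.LocalLines
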