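import Cfsg.Agent.LocalLines.Local

/-!
# Lines through a member

Each member is on three or nine lines.
-/

set_option autoImplicit false

open Cfsg

namespace Cfsg.Agent.LocalLines

open Cfsg.Agent.ThreeTrans

variable {G : Type*} [Group G] [Finite G] {D : Set G} {x y z : G}

/-- The members commuting with `x` and `y`. -/
def lineSet (D : Set G) (x y : G) : Set G := {c | c ∈ D ∧ Commute c x ∧ Commute c y}

namespace Pre

variable (S : Pre D)
include S

theorem lam : Lam D := S.setup.lam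

theorem tau_of_commute (hx : x ∈ D) {a b : ↥(Subgroup.closure (dperp D x))} (ha : a ∈ loc D x)
    (hb : b ∈ loc D x) (h : Commute a b) : Tau (loc D x) a b :=
  S.tau_of_ln hx ha hb fun e he hex hea =>
    S.lam x hx a ha.1 (Ne.symm ha.2.1) ha.2.2 e he b hb.1 hex hea hb.2.2.symm
      (commute_coe.2 h).symm

/-- The even products of members on a line. -/
def even (D : Set G) (x : G) : Subgroup G :=
  (pCore 2 ↥(Subgroup.closure (dperp D x))).map (Subgroup.closure (dperp D x)).subtype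

theorem mul_mem_even (hx : x ∈ D) {a b : G} (ha : a ∈ dperp D x) (hb : b ∈ dperp D x)
    (h : Commute a b) : a * b ∈ even D x := by
  let a' : ↥(Subgroup.closure (dperp D x)) := ⟨a, Subgroup.subset_closure ha⟩
  let b' : ↥(Subgroup.closure (dperp D x)) := ⟨b, Subgroup.subset_closure hb⟩
  exact ⟨a' * b', tau_mem_pCore (S.loc_class hx).1 (class_conj (S.loc_class hx)) (x := a') (y := b')
    ha hb (S.tau_of_commute hx (a := a') (b := b') ha hb (commute_coe.1 h)), rfl⟩

theorem commute_conj_even (hx : x ∈ D) {g q : G} (hg : g ∈ even D x) (hq : q ∈ dperp D x) :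
    Commute (g * q * g⁻¹) q := by
  obtain ⟨h, hh, rfl⟩ := hg
  let q' : ↥(Subgroup.closure (dperp D x)) := ⟨q, Subgroup.subset_closure hq⟩
  have hq2 : h * q' * h⁻¹ ∈ loc D x := class_conj (S.loc_class hx) h q' hq
  have h1 : q'⁻¹ * (h * q' * h⁻¹) ∈ pCore 2 ↥(Subgroup.closure (dperp D x)) := by
    have h1 := mul_mem ((Core.pCore_normal (p := 2) (G := _)).conj_mem h hh q'⁻¹) (inv_mem hh)
    simpa [mul_assoc] using h1
  have hq' : q' ∈ loc D x := hq
  exact commute_coe.2 (commute_of_tau hq' (tau_of_mem_pCore (S.loc_class hx).1 hq' hq2 h1)).symm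

theorem exists_count (hx : x ∈ D) :
    ∃ N, (N = 3 ∨ N = 9) ∧
      ((QuotientGroup.mk' (pCore 2 ↥(Subgroup.closure (dperp D x)))) '' loc D x).ncard = N := by
  classical
  have := Fact.mk Nat.prime_three
  have := Fact.mk Nat.prime_two
  have := S.solv x hx
  set H := ↥(Subgroup.closure (dperp D x))
  set π := QuotientGroup.mk' (pCore 2 H)
  obtain ⟨hcls, a₀, ha₀, b₀, hb₀, hab₀⟩ := S.quot_class hx
  have hnc : ∀ p ∈ π '' loc D x, ∀ q ∈ π '' loc D x, Commute p q → p = q := by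
    rintro _ ⟨a, ha, rfl⟩ _ ⟨b, hb, rfl⟩ h
    exact (S.map_eq_iff hx ha hb).2 (S.tau_of_commute hx ha hb (S.map_commute hx ha hb h))
  obtain ⟨j, hj⟩ := LocalTwins.ncard_three_pow hcls.1 (T := π '' loc D x) (fun _ h => h) ⟨a₀, ha₀⟩
    hnc (fun p hp q hq => conj_mem hcls.1 (class_conj hcls) hp hq)
  have h1 : 1 < 3 ^ j := by
    rw [← hj]
    exact (Set.one_lt_ncard (Set.toFinite _)).2 ⟨a₀, ha₀, b₀, hb₀, fun h => hab₀ (h ▸ Commute.refl _)⟩
  suffices h27 : 3 ^ j < 27 by
    refine ⟨3 ^ j, ?_, hj⟩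
    rcases j with _ | _ | _ | j
    · simp at h1
    · left; rfl
    · right; rfl
    · exfalso
      have : (3 : ℕ) ^ 3 ≤ 3 ^ (j + 3) := Nat.pow_le_pow_right (by norm_num) (by omega)
      omega
  -- the group modulo its odd core
  set Z : Subgroup H := oddCore H
  have hZc : Z ≤ Subgroup.center H := S.odd x hx
  set ρ := QuotientGroup.mk' Z
  have hE := S.loc_class hx
  have hsur := QuotientGroup.mk'_surjective Z
  have hZodd : ∀ c ∈ Z, c * c = 1 → c = 1 := by
    intro c hc h2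
    have hd : orderOf c ∣ 2 := orderOf_dvd_of_pow_eq_one (by rw [sq, h2])
    have h3 : orderOf c ∣ Nat.card Z := by
      rw [← Subgroup.orderOf_mk c hc]; exact orderOf_dvd_natCard _
    exact orderOf_eq_one_iff.1 (Nat.eq_one_of_dvd_coprimes Core.coprime_card_pPrimeCore h3 hd)
  have hρc : ∀ e ∈ loc D x, ∀ f ∈ loc D x, Commute (ρ e) (ρ f) → Commute e f := by
    intro e he f hf h
    have hz : e * f * e⁻¹ * f⁻¹ ∈ Z := by
      rw [← QuotientGroup.eq_one_iff]
      show ρ (e * f * e⁻¹ * f⁻¹) = 1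
      rw [map_mul, map_mul, map_mul, map_inv, map_inv, h.eq, mul_inv_cancel_right, mul_inv_cancel]
    by_contra hef
    have h3 := cube_of_not_commute hE.1 he hf hef
    rw [inv_eq hE.1 he, inv_eq hE.1 hf] at hz
    have hc2 : Commute ((e * f) ^ 2) e := by
      rw [show (e * f) ^ 2 = e * f * e * f by rw [sq]; simp only [mul_assoc]]
      exact (Subgroup.mem_center_iff.1 (hZc hz) e).symm
    have hc1 : Commute (e * f) e := by
      have := hc2.mul_left hc2
      rwa [← sq, ← pow_mul, show 2 * 2 = 3 + 1 from rfl, pow_succ, h3, one_mul] at this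
    exact hef (show e * f = f * e by
      have := hc1.eq
      rw [mul_assoc] at this
      exact (mul_left_cancel this).symm)
  have hρinj : ∀ e ∈ loc D x, ∀ f ∈ loc D x, ρ e = ρ f → e = f := by
    intro e he f hf h
    have hz : e⁻¹ * f ∈ Z := QuotientGroup.eq.1 h
    rw [inv_eq hE.1 he] at hz
    have := hZodd _ hz (by
      rw [← sq]
      exact (sq_eq_one_iff hE.1 he hf).2 (hρc e he f hf (h ▸ Commute.refl _)))
    rw [mul_eq_one_iff_eq_inv.1 this, inv_eq hE.1 hf]
  set E₁ := ρ '' loc D x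
  obtain ⟨a₁, ha₁, b₁, hb₁, hab₁⟩ := S.loc_two hx
  have hne1 : ∀ e ∈ loc D x, ρ e ≠ 1 := fun e he h1 => by
    have := hZodd e ((QuotientGroup.eq_one_iff e).1 h1) (mul_self hE.1 he)
    exact ne_one hE.1 he this
  have hE₁ : IsThreeTranspositionClass E₁ := by
    refine ⟨⟨?_, ?_⟩, ⟨ρ a₁, Set.mem_image_of_mem ρ ha₁, ?_⟩, ?_⟩
    · rintro _ ⟨e, he, rfl⟩
      exact orderOf_eq_prime (by rw [sq, ← map_mul, mul_self hE.1 he, map_one]) (hne1 e he)
    · rintro _ ⟨e, he, rfl⟩ _ ⟨f, hf, rfl⟩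
      rw [← map_mul, ← map_pow, ← map_pow]
      exact (hE.1.2 e he f hf).imp (fun h => by rw [h, map_one]) (fun h => by rw [h, map_one])
    · refine Set.ext fun q => ⟨?_, fun hq => ?_⟩
      · rintro ⟨e, he, rfl⟩
        obtain ⟨g, hg⟩ := class_isConj hE ha₁ he
        exact isConj_iff.2 ⟨ρ g, by rw [← hg]; simp⟩
      · obtain ⟨k, rfl⟩ := isConj_iff.1 (hq : IsConj _ q)
        obtain ⟨g, rfl⟩ := hsur k
        exact ⟨g * a₁ * g⁻¹, class_conj hE g a₁ ha₁, by simp [ρ]⟩
    · rw [← MonoidHom.map_closure, hE.2.2, Subgroup.map_top_of_surjective ρ hsur]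
  have hE₂ : ∃ a ∈ E₁, ∃ b ∈ E₁, a ≠ b :=
    ⟨_, Set.mem_image_of_mem ρ ha₁, _, Set.mem_image_of_mem ρ hb₁,
      fun h => hab₁ (hρinj _ ha₁ _ hb₁ h)⟩
  -- its 2-core
  have hodd1 : oddCore (H ⧸ Z) = ⊥ := Core.pPrimeCore_quotient_eq_bot
  have hpodd : ∀ p : ℕ, p.Prime → p ≠ 2 → pCore p (H ⧸ Z) = ⊥ := by
    intro p hp hp2
    have := Fact.mk hp
    refine le_bot_iff.1 (hodd1 ▸ Core.le_pPrimeCore (p := 2) ?_)
    obtain ⟨n, hn⟩ := IsPGroup.iff_card.1 (Core.pCore_isPGroup (p := p) (G := H ⧸ Z))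
    rw [hn]
    exact Nat.Coprime.pow_left n ((Nat.coprime_primes hp Nat.prime_two).2 hp2)
  have hF : generalizedFittingSubgroup (H ⧸ Z) = pCore 2 (H ⧸ Z) := by
    rw [generalizedFittingSubgroup, Layer.layer_eq_bot_iff_centralizer_fitting.2 Core.centralizer_fittingSubgroup_le,
      bot_sup_eq]
    refine le_antisymm ?_ (Core.pCore_le_fittingSubgroup 2)
    rw [Core.fittingSubgroup_eq_iSup_pCore]
    refine iSup_le fun p => ?_
    by_cases hp2 : (p : ℕ) = 2
    · rw [hp2]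
    · rw [hpodd p p.2 hp2]; exact bot_le
  -- the quotient by the 2-core
  set σ := QuotientGroup.mk' (pCore 2 (H ⧸ Z))
  have hσρ : ∀ e ∈ loc D x, ∀ f ∈ loc D x, σ (ρ e) = σ (ρ f) ↔ π e = π f := by
    intro e he f hf
    rw [S.map_eq_iff hx he hf]
    constructor
    · intro h
      have h1 := tau_of_mem_pCore hE₁.1 (Set.mem_image_of_mem ρ he) (Set.mem_image_of_mem ρ hf)
        (QuotientGroup.eq.1 h)
      exact fun w hw => ⟨fun h2 => hρc f hf w hw ((h1 _ (Set.mem_image_of_mem ρ hw)).1 (h2.map ρ)),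
        fun h2 => hρc e he w hw ((h1 _ (Set.mem_image_of_mem ρ hw)).2 (h2.map ρ))⟩
    · intro h
      refine QuotientGroup.eq.2 ((tau_iff (class_toGroup hE₁) (Set.mem_image_of_mem ρ he)
        (Set.mem_image_of_mem ρ hf)).1 ?_)
      rintro _ ⟨w, hw, rfl⟩
      exact ⟨fun h2 => ((h w hw).1 (hρc e he w hw h2)).map ρ,
        fun h2 => ((h w hw).2 (hρc f hf w hw h2)).map ρ⟩
  have hne2 : ∀ e ∈ loc D x, σ (ρ e) ≠ 1 := by
    intro e he h1
    obtain ⟨f, hf, hef⟩ := exists_not_commute hE (S.loc_two hx) he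
    obtain ⟨g, hg⟩ := class_isConj hE he hf
    have h2 : σ (ρ f) = 1 := by simp [← hg, h1]
    exact hef (S.map_commute hx he hf ((hσρ e he f hf).1 (h1.trans h2.symm) ▸ Commute.refl _))
  set K := (H ⧸ Z) ⧸ pCore 2 (H ⧸ Z)
  set T : Set K := σ '' E₁ with hTdef
  have hcardT : T.ncard = 3 ^ j := by
    rw [← hj]
    symm
    refine Set.ncard_congr (fun q hq => σ (ρ hq.choose)) (fun q hq => ?_) (fun p q hp hq h => ?_) ?_
    · exact ⟨_, Set.mem_image_of_mem ρ hq.choose_spec.1, rfl⟩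
    · rw [← hp.choose_spec.2, ← hq.choose_spec.2]
      exact (hσρ _ hp.choose_spec.1 _ hq.choose_spec.1).1 h
    · rintro _ ⟨_, ⟨e, he, rfl⟩, rfl⟩
      exact ⟨π e, Set.mem_image_of_mem π he,
        (hσρ _ (Set.mem_image_of_mem π he).choose_spec.1 e he).2 (Set.mem_image_of_mem π he).choose_spec.2⟩
  have hTc : IsCubeSet T := by
    refine ⟨fun g t ht => ?_, ?_, ?_⟩
    · obtain ⟨g', rfl⟩ := QuotientGroup.mk'_surjective (pCore 2 (H ⧸ Z)) g
      obtain ⟨e, he, rfl⟩ := ht
      exact ⟨g' * e * g'⁻¹, class_conj hE₁ g' e he, by simp [σ]⟩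
    · rintro _ ⟨_, ⟨e, he, rfl⟩, rfl⟩
      exact orderOf_eq_prime (by rw [sq, ← map_mul, ← map_mul, mul_self hE.1 he, map_one, map_one])
        (hne2 e he)
    · rintro _ ⟨_, ⟨e, he, rfl⟩, rfl⟩ _ ⟨_, ⟨f, hf, rfl⟩, rfl⟩
      by_cases h : Commute e f
      · rw [(hσρ e he f hf).2 ((S.map_eq_iff hx he hf).2 (S.tau_of_commute hx he hf h)), ← map_mul,
          ← map_mul, mul_self hE.1 hf, map_one, map_one, one_pow]
      · rw [← map_mul, ← map_mul, ← map_pow, ← map_pow, cube_of_not_commute hE.1 he hf h, map_one,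
          map_one]
  let P₃ := pCore 3 K
  obtain ⟨t₀, ht₀⟩ : T.Nonempty := ⟨σ (ρ a₁), Set.mem_image_of_mem σ (Set.mem_image_of_mem ρ ha₁)⟩
  have hcl : Subgroup.closure T = ⊤ := by
    rw [← MonoidHom.map_closure, hE₁.2.2,
      Subgroup.map_top_of_surjective σ (QuotientGroup.mk'_surjective _)]
  have hidx : P₃.index ∣ 2 := by
    have hz : (⊤ : Subgroup K).map (QuotientGroup.mk' P₃) ≤ Subgroup.zpowers ((QuotientGroup.mk' P₃) t₀) := by
      rw [← hcl, MonoidHom.map_closure, Subgroup.closure_le]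
      rintro _ ⟨t, ht, rfl⟩
      have h1 : (QuotientGroup.mk' P₃) (t₀ * t) = 1 :=
        (QuotientGroup.eq_one_iff _).2 (hTc.mul_mem_pCore ht₀ ht)
      rw [map_mul, mul_eq_one_iff_inv_eq] at h1
      rw [← h1]
      exact inv_mem (Subgroup.mem_zpowers _)
    rw [Subgroup.map_top_of_surjective _ (QuotientGroup.mk'_surjective _)] at hz
    rw [Subgroup.index, ← Subgroup.card_top (G := K ⧸ P₃), ← le_antisymm le_top hz, Nat.card_zpowers]
    exact (orderOf_dvd_of_pow_eq_one (by rw [sq, ← map_mul, hTc.mul_self ht₀, map_one]))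
  obtain ⟨k, -, hk⟩ := (Nat.dvd_prime_pow Nat.prime_two).1 (show P₃.index ∣ 2 ^ 1 by simpa using hidx)
  have h232 : ∃ P : Sylow 3 K, (P : Subgroup K).Normal ∧ ∃ k : ℕ, (P : Subgroup K).index = 2 ^ k := by
    refine ⟨(Core.pCore_isPGroup (p := 3) (G := K)).toSylow ?_, ?_, k, ?_⟩
    · rw [hk]; intro h3; exact absurd (Nat.Prime.dvd_of_dvd_pow Nat.prime_three h3) (by norm_num)
    · exact Core.pCore_normal
    · exact hk
  obtain ⟨d, P, F, hP⟩ := O232.exists_frame hE₁ hE₂ hF h232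
  have hσd : σ d ≠ 1 := fun h => F.dO ((QuotientGroup.eq_one_iff d).1 h)
  have hTsub : T ⊆ (fun q => σ d * q) '' (σ '' ({p | p ∈ P ∧ d * p * d = p⁻¹})) := by
    rintro _ ⟨e, he, rfl⟩
    obtain ⟨p, hp, hpi, hep⟩ := F.mem e he
    exact ⟨σ p, ⟨p, ⟨hp, hpi⟩, rfl⟩, by show σ d * σ p = σ e; rw [← map_mul]; exact hep.symm⟩
  have hle : 3 ^ j ≤ (σ '' ({p | p ∈ P ∧ d * p * d = p⁻¹})).ncard := by
    rw [← hcardT]
    exact (Set.ncard_le_ncard hTsub (Set.toFinite _)).trans (Set.ncard_image_le (Set.toFinite _))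
  have hIP : (σ '' ({p | p ∈ P ∧ d * p * d = p⁻¹})) ⊆ ↑(P.map σ) := by
    rintro _ ⟨p, hp, rfl⟩; exact ⟨p, hp.1, rfl⟩
  have hproper : P.map σ ≠ ⊤ := by
    intro h
    obtain ⟨p, hp, hpd⟩ : σ d ∈ P.map σ := h ▸ Subgroup.mem_top _
    obtain ⟨n, hn⟩ := F.p3 ⟨p, hp⟩
    have hn' : p ^ (3 ^ n) = 1 := by simpa using congrArg Subtype.val hn
    obtain ⟨i, hi⟩ : Odd (3 ^ n) := Odd.pow (by decide)
    have h2 := congrArg σ hn'
    rw [map_pow, hpd, hi, pow_succ, pow_mul, sq, ← map_mul, mul_self hE₁.1 F.hd, map_one, one_pow,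
      one_mul] at h2
    exact hσd h2
  have hhalf : ∀ n, Nat.card K = n → 2 * (σ '' ({p | p ∈ P ∧ d * p * d = p⁻¹})).ncard ≤ n := by
    intro n hn
    have h1 := (P.map σ).index_mul_card
    have h2 : (P.map σ).index ≠ 1 := fun h => hproper (Subgroup.index_eq_one.1 h)
    have h3 : (P.map σ).index ≠ 0 := Subgroup.index_ne_zero_of_finite
    have h4 := Set.ncard_le_ncard hIP (Set.toFinite _)
    rw [← Nat.card_coe_set_eq] at h4
    rw [← hn, ← h1]
    exact Nat.mul_le_mul (by omega) h4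
  have hinjP : ∀ p ∈ P, ∀ q ∈ P, σ p = σ q → p = q := fun p hp q hq h =>
    eq_of_inv_mul_eq_one (F.eq_one_of_mem (mul_mem (inv_mem hp) hq) (QuotientGroup.eq.1 h))
  rcases F.cases hP with ⟨u, hu, hui, hu1, hPu⟩ | ⟨u, v, hu, hv, hui, hvi, hzu, hzv, hz, hPuv⟩
  · have hPcard : Nat.card P ≤ 3 := by
      rw [hPu, Nat.card_zpowers]
      exact Nat.le_of_dvd (by norm_num) (orderOf_dvd_of_pow_eq_one (F.cube hu hui))
    have h4 : (σ '' ({p | p ∈ P ∧ d * p * d = p⁻¹})).ncard ≤ Nat.card P := by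
      refine (Set.ncard_image_le (Set.toFinite _)).trans ?_
      rw [← SetLike.coe_sort_coe, Nat.card_coe_set_eq]
      exact Set.ncard_le_ncard (fun p hp => hp.1) (Set.toFinite _)
    omega
  · have hK54 : Nat.card K = 54 := by
      rcases F.quotient_cases hP with he | he
      · obtain ⟨e⟩ := he
        exfalso
        have hK6 : Nat.card K = 6 := by rw [Nat.card_congr e.toEquiv, Nat.card_perm, Nat.card_fin]; rfl
        have h9 : 9 ≤ Nat.card (P.map σ) := by
          have hcard : Nat.card (P.map σ) = Nat.card P :=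
            (Nat.card_congr (Equiv.ofBijective (fun p : P => (⟨σ p, p, p.2, rfl⟩ : P.map σ))
              ⟨fun p q h => Subtype.ext (hinjP _ p.2 _ q.2 (congrArg Subtype.val h)),
                fun ⟨q, p, hp, hpq⟩ => ⟨⟨p, hp⟩, Subtype.ext hpq⟩⟩)).symm
          rw [hcard]
          obtain ⟨n, hn⟩ := IsPGroup.iff_card.1 F.p3
          rw [hn]
          rcases n with _ | _ | n
          · exfalso; exact hP (Subgroup.card_eq_one.1 (by simpa using hn))
          · exfalso
            have : IsCyclic P := isCyclic_of_prime_card (p := 3) (by simpa using hn)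
            obtain ⟨g, hg⟩ := IsCyclic.exists_generator (α := P)
            obtain ⟨i, hi⟩ := Subgroup.mem_zpowers_iff.1 (hg ⟨u, hu⟩)
            obtain ⟨i', hi'⟩ := Subgroup.mem_zpowers_iff.1 (hg ⟨v, hv⟩)
            have hcuv : Commute (⟨u, hu⟩ : P) ⟨v, hv⟩ := hi ▸ hi' ▸ Commute.zpow_zpow_self g i i'
            apply hz
            have := congrArg Subtype.val hcuv.eq
            simp only [Subgroup.coe_mul] at this
            rw [this, mul_inv_cancel_right, mul_inv_cancel]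
          · calc 9 = 3 ^ 2 := rfl
              _ ≤ 3 ^ (n + 1 + 1) := Nat.pow_le_pow_right (by norm_num) (by omega)
        have h10 := h9.trans ((Nat.le_of_dvd Nat.card_pos (Subgroup.card_subgroup_dvd_card (P.map σ))).trans_eq hK6)
        omega
      · obtain ⟨e⟩ := he
        obtain ⟨a, b, c, hrel⟩ := SU32.exists_rel
        rw [Nat.card_congr e.toEquiv]
        exact HeisTwo.card_eq hrel
    have h5 := hhalf 54 hK54
    by_contra hge
    have h6 : (σ '' ({p | p ∈ P ∧ d * p * d = p⁻¹})) = ↑(P.map σ) := by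
      refine Set.eq_of_subset_of_ncard_le hIP ?_ (Set.toFinite _)
      have h1 := (P.map σ).index_mul_card
      have h2 : (P.map σ).index ≠ 1 := fun h => hproper (Subgroup.index_eq_one.1 h)
      have h3 : (P.map σ).index ≠ 0 := Subgroup.index_ne_zero_of_finite
      rw [hK54] at h1
      rw [← Nat.card_coe_set_eq (↑(P.map σ) : Set K)]
      have h7 : 2 * Nat.card (P.map σ) ≤ 54 := by
        rw [← h1]; exact Nat.mul_le_mul (by omega) le_rfl
      show Nat.card (P.map σ) ≤ _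
      omega
    have hall : ∀ p ∈ P, d * p * d = p⁻¹ := by
      intro p hp
      obtain ⟨q, ⟨hq, hqi⟩, hqp⟩ : σ p ∈ σ '' ({p | p ∈ P ∧ d * p * d = p⁻¹}) := by
        rw [h6]; exact ⟨p, hp, rfl⟩
      rwa [hinjP q hq p hp hqp] at hqi
    apply hz
    have h7 := hall _ (mul_mem hu hv)
    rw [F.conj_mul', hui, hvi, mul_inv_rev] at h7
    have h8 : u * v = v * u := by
      rw [← mul_inv_rev, ← mul_inv_rev, inv_inj] at h7
      exact h7.symm
    rw [h8, mul_inv_cancel_right, mul_inv_cancel]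

/-- `x` is on three or nine lines, all with equally many points. -/
theorem degree (hx : x ∈ D) (hy : y ∈ dperp D x) :
    ∃ N, (N = 3 ∨ N = 9) ∧ (dperp D x).ncard = N * ((lineSet D x y).ncard - 1) ∧
      ∀ T ⊆ dperp D x, (∀ p ∈ T, ∀ q ∈ T, Commute p q → p = q) → T.ncard ≤ N := by
  classical
  obtain ⟨N, hN, hcard⟩ := S.exists_count hx
  set π := QuotientGroup.mk' (pCore 2 ↥(Subgroup.closure (dperp D x)))
  refine ⟨N, hN, ?_, fun T hT hnc => ?_⟩
  · have hline : ∀ y' ∈ dperp D x, (lineSet D x y').ncard = (lineSet D x y).ncard := by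
      intro y' hy'
      obtain ⟨g, g1, g2⟩ := S.setup.trans hx hy' hx hy
      have : lineSet D x y' = (fun c => g * c * g⁻¹) '' lineSet D x y := by
        refine Set.ext fun c => ⟨fun hc => ⟨g⁻¹ * c * g, ⟨?_, ?_, ?_⟩, by group⟩, ?_⟩
        · simpa using S.hc g⁻¹ c hc.1
        · rw [← commute_conj g, g1, show g * (g⁻¹ * c * g) * g⁻¹ = c by group]; exact hc.2.1
        · rw [← commute_conj g, g2, show g * (g⁻¹ * c * g) * g⁻¹ = c by group]; exact hc.2.2
        · rintro ⟨c, hc, rfl⟩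
          refine ⟨S.hc g c hc.1, ?_, ?_⟩
          · show Commute (g * c * g⁻¹) x
            conv => arg 2; rw [← g1]
            exact (commute_conj g c x).2 hc.2.1
          · show Commute (g * c * g⁻¹) y'
            rw [← g2]
            exact (commute_conj g c y).2 hc.2.2
      rw [this, Set.ncard_image_of_injective _ fun u w h => mul_left_cancel (mul_right_cancel h)]
    let : Fintype ↥(loc D x) := Fintype.ofFinite _
    have hloc : (loc D x).ncard = (dperp D x).ncard :=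
      Set.ncard_congr (fun h _ => (h : G)) (fun h hh => hh) (fun _ _ _ _ e => Subtype.ext e)
        fun b hb => ⟨⟨b, Subgroup.subset_closure hb⟩, hb, rfl⟩
    rw [← hloc, ← hcard, Set.ncard_eq_toFinset_card', Set.ncard_eq_toFinset_card']
    rw [Finset.card_eq_sum_card_image π (loc D x).toFinset, ← Set.toFinset_image,
      Finset.sum_const_nat]
    intro q hq
    obtain ⟨y', hy', rfl⟩ := Set.mem_toFinset.1 hq
    rw [← Set.ncard_coe_finset, ← Set.ncard_sdiff_singleton_of_mem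
      (show x ∈ lineSet D x y from ⟨hx, Commute.refl x, hy.2.2⟩), Set.ncard_sdiff_singleton_of_mem
      (show x ∈ lineSet D x y from ⟨hx, Commute.refl x, hy.2.2⟩), ← hline _ hy',
      ← Set.ncard_sdiff_singleton_of_mem (show x ∈ lineSet D x (y' : G) from
        ⟨hx, Commute.refl x, hy'.2.2⟩)]
    refine Set.ncard_congr (fun h _ => (h : G)) (fun h hh => ?_) (fun _ _ _ _ e => Subtype.ext e) ?_
    · simp only [Finset.coe_filter, Set.mem_toFinset, Set.mem_ofPred_eq] at hh
      exact ⟨⟨hh.1.1, hh.1.2.2.symm, commute_coe.2 (commute_of_tau hh.1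
        ((S.map_eq_iff hx hh.1 hy').1 hh.2) |>.symm).symm⟩, hh.1.2.1⟩
    · rintro c ⟨⟨hc, hcx, hcy⟩, hne⟩
      have hc' : (⟨c, Subgroup.subset_closure ⟨hc, hne, hcx.symm⟩⟩ :
          ↥(Subgroup.closure (dperp D x))) ∈ loc D x := ⟨hc, hne, hcx.symm⟩
      refine ⟨⟨c, Subgroup.subset_closure ⟨hc, hne, hcx.symm⟩⟩, ?_, rfl⟩
      simp only [Finset.coe_filter, Set.mem_toFinset, Set.mem_ofPred_eq]
      exact ⟨hc', (S.map_eq_iff hx hc' hy').2 (S.tau_of_commute hx hc' hy' (commute_coe.1 hcy))⟩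
  · rw [← hcard]
    refine Set.ncard_le_ncard_of_injOn
      (fun t => if h : t ∈ dperp D x then π ⟨t, Subgroup.subset_closure h⟩ else 1)
      (fun t ht => ?_) (fun a ha b hb h => ?_) (Set.toFinite _)
    · simp only [dif_pos (hT ht)]
      exact ⟨_, hT ht, rfl⟩
    · simp only [dif_pos (hT ha), dif_pos (hT hb)] at h
      refine hnc a ha b hb (commute_coe.2 (S.map_commute hx (a := ⟨a, Subgroup.subset_closure (hT ha)⟩)
        (b := ⟨b, Subgroup.subset_closure (hT hb)⟩) (hT ha) (hT hb) (h ▸ Commute.refl _)))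

end Pre

end Cfsg.Agent.LocalLines
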