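import Cfsg.Agent.LocalLines.Cert

/-!
# Starting points and results of derivations

States with given members and relations, and the properties of a state in which everything is
known.
-/

set_option autoImplicit false

open Cfsg

namespace Cfsg.Agent.LocalLines

open Cfsg.Agent.ThreeTrans

/-- A bounded universal quantifier, for evaluation. -/
def allN : ℕ → (ℕ → Bool) → Bool
  | 0, _ => true
  | n + 1, p => p n && allN n p

theorem of_allN : ∀ {n : ℕ} {p : ℕ → Bool}, allN n p = true → ∀ a < n, p a = true
  | 0, _, _, a, h => absurd h (Nat.not_lt_zero a)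
  | n + 1, p, h, a, ha => by
    rw [allN, Bool.and_eq_true] at h
    rcases Nat.lt_succ_iff_lt_or_eq.1 ha with ha | rfl
    · exact of_allN h.2 a ha
    · exact h.1

namespace St

/-- Nothing is known. -/
def empty : St := ⟨0, 0, 0⟩

/-- One more member. -/
def add (s : St) (a : ℕ) : St := { s with df := s.df ||| 2 ^ a }

/-- Several more members. -/
def adds (s : St) (l : List ℕ) : St := l.foldl St.add s

/-- Several more relations. -/
def rels (s : St) (ps : List (ℕ × ℕ)) : St := ps.foldl (fun t p => t.setR p.1 p.2) s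

/-- Both members are there and the table is symmetric on them. -/
def relOk (M : Table) (s : St) (p : ℕ × ℕ) : Bool :=
  s.df.testBit p.1 && s.df.testBit p.2 && (M.c p.1 p.2 == M.c p.2 p.1)

theorem testBit_add {s : St} {a i : ℕ} :
    (s.add a).df.testBit i = true ↔ s.df.testBit i = true ∨ i = a := by
  show (s.df ||| 2 ^ a).testBit i = true ↔ _
  rw [Nat.testBit_lor, Nat.testBit_two_pow, Bool.or_eq_true, decide_eq_true_eq]
  exact or_congr Iff.rfl eq_comm

/-- Everything about the members below the size of the table is known. -/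
def full (M : Table) (s : St) : Bool :=
  allN M.n fun a => allN M.n fun b =>
    s.df.testBit a && bget s.r a b && Nat.blt (M.k a b) M.n &&
      (if M.c a b then M.k a b == b else bget s.t a b)

end St

/-- Rows of the table below `2 ^ n`, all different. -/
def Table.sep (M : Table) : Bool :=
  allN M.n fun a => Nat.blt (M.com a) (2 ^ M.n) && allN M.n fun b => (a == b) || !(M.com a == M.com b)

variable {G : Type*} [Group G] {D : Set G} {M : Table} {f : ℕ → G} {s : St}

theorem Inv.empty (D : Set G) (M : Table) (f : ℕ → G) : Inv D M f St.empty where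
  mem a h := by simp [St.empty] at h
  rel a b h := by simp [St.empty, bget] at h
  tri a b h := by simp [St.empty, bget] at h

theorem Inv.add (I : Inv D M f s) {a : ℕ} (ha : f a ∈ D) : Inv D M f (s.add a) := by
  refine ⟨fun i hi => ?_, fun i j hij => ?_, fun i j hij => ?_⟩
  · rcases St.testBit_add.1 hi with h | rfl
    · exact I.mem i h
    · exact ha
  · obtain ⟨h1, h2, h3⟩ := I.rel i j hij
    exact ⟨St.testBit_add.2 (Or.inl h1), St.testBit_add.2 (Or.inl h2), h3⟩
  · obtain ⟨h1, h2, h3, h4⟩ := I.tri i j hij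
    exact ⟨St.testBit_add.2 (Or.inl h1), St.testBit_add.2 (Or.inl h2),
      St.testBit_add.2 (Or.inl h3), h4⟩

theorem Inv.adds : ∀ {l : List ℕ} {s : St}, Inv D M f s → (∀ a ∈ l, f a ∈ D) →
    Inv D M f (s.adds l)
  | [], _, I, _ => I
  | a :: l, s, I, h => Inv.adds (s := s.add a) (I.add (h a List.mem_cons_self))
      fun b hb => h b (List.mem_cons_of_mem a hb)

theorem Inv.rels : ∀ {ps : List (ℕ × ℕ)} {s : St}, Inv D M f s →
    ps.all (s.relOk M) = true → (∀ p ∈ ps, Commute (f p.1) (f p.2) ↔ M.c p.1 p.2 = true) →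
    Inv D M f (s.rels ps)
  | [], _, I, _, _ => I
  | p :: ps, s, I, hok, h => by
    rw [List.all_cons, Bool.and_eq_true] at hok
    have h1 := hok.1
    simp only [St.relOk, Bool.and_eq_true, beq_iff_eq] at h1
    have hp := h p List.mem_cons_self
    exact Inv.rels (s := s.setR p.1 p.2) (I.setR h1.1.1 h1.1.2 hp (h1.2 ▸ hp)) hok.2
      fun q hq => h q (List.mem_cons_of_mem p hq)

/-- Only the members of the state matter. -/
theorem Inv.congr (I : Inv D M f s) {f' : ℕ → G} (h : ∀ a, s.df.testBit a = true → f' a = f a) :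
    Inv D M f' s := by
  refine ⟨fun i hi => ?_, fun i j hij => ?_, fun i j hij => ?_⟩
  · rw [h i hi]; exact I.mem i hi
  · obtain ⟨h1, h2, h3⟩ := I.rel i j hij
    rw [h i h1, h j h2]; exact ⟨h1, h2, h3⟩
  · obtain ⟨h1, h2, h3, h4⟩ := I.tri i j hij
    rw [h i h1, h j h2, h _ h3]; exact ⟨h1, h2, h3, h4⟩

/-- A new member, with a name not used so far. -/
theorem Inv.update (I : Inv D M f s) {a : ℕ} (ha : s.df.testBit a = false) {g : G} (hg : g ∈ D) :
    Inv D M (Function.update f a g) (s.add a) :=
  (I.congr fun i hi => Function.update_of_ne (fun e => by simp [e, ha] at hi) _ _).add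
    (by rwa [Function.update_self])

/-- The members `f a` behave as the table says. -/
structure Full (D : Set G) (M : Table) (f : ℕ → G) : Prop where
  mem : ∀ a < M.n, f a ∈ D
  rel : ∀ a < M.n, ∀ b < M.n, Commute (f a) (f b) ↔ M.c a b = true
  lt : ∀ a < M.n, ∀ b < M.n, M.k a b < M.n
  conj : ∀ a < M.n, ∀ b < M.n, f a * f b * f a = f (M.k a b)

theorem Inv.toFull (I : Inv D M f s) (hT : IsThreeTranspositionSet D) (h : s.full M = true) :
    Full D M f := by
  have key : ∀ a < M.n, ∀ b < M.n, s.df.testBit a = true ∧ bget s.r a b = true ∧ M.k a b < M.n ∧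
      ((if M.c a b then M.k a b == b else bget s.t a b) = true) := fun a ha b hb => by
    have := of_allN (of_allN h a ha) b hb
    simpa only [Bool.and_eq_true, Nat.blt_eq, and_assoc] using this
  refine ⟨fun a ha => I.mem a (key a ha a ha).1, fun a ha b hb => (I.rel a b (key a ha b hb).2.1).2.2,
    fun a ha b hb => (key a ha b hb).2.2.1, fun a ha b hb => ?_⟩
  obtain ⟨h1, h2, -, h3⟩ := key a ha b hb
  obtain ⟨-, -, h4⟩ := I.rel a b h2
  split_ifs at h3 with hc
  · rw [beq_iff_eq.1 h3]
    exact conj_self_of_commute hT (I.mem a h1) (h4.2 hc)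
  · exact (I.tri a b h3).2.2.2

theorem Full.inj (F : Full D M f) (hs : M.sep = true) {a b : ℕ} (ha : a < M.n) (hb : b < M.n)
    (h : f a = f b) : a = b := by
  have hlt : ∀ c < M.n, M.com c < 2 ^ M.n := fun c hc => by
    have := of_allN hs c hc
    simp only [Bool.and_eq_true, Nat.blt_eq] at this
    exact this.1
  have h1 := of_allN hs a ha
  simp only [Bool.and_eq_true] at h1
  have h2 := of_allN h1.2 b hb
  simp only [Bool.or_eq_true, beq_iff_eq, Bool.not_eq_true', beq_eq_false_iff_ne] at h2
  refine h2.resolve_right fun hne => hne (Nat.eq_of_testBit_eq fun i => ?_)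
  rcases lt_or_ge i M.n with hi | hi
  · have e1 := F.rel a ha i hi
    rw [h, F.rel b hb i hi] at e1
    exact (Bool.eq_iff_iff.2 e1).symm
  · rw [Nat.testBit_lt_two_pow ((hlt a ha).trans_le (Nat.pow_le_pow_right (by norm_num) hi)),
      Nat.testBit_lt_two_pow ((hlt b hb).trans_le (Nat.pow_le_pow_right (by norm_num) hi))]

/-- The number of entries of a row that are true. -/
def Table.deg (M : Table) (a : ℕ) : ℕ :=
  ((List.range M.n).filter fun b => (b != a) && M.c a b).length

/-- If every named member has as many named partners as there are partners in `D`, every member is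
named. -/
theorem Full.exists_eq [Finite G] (F : Full D M f) (hs : M.sep = true)
    (hD : IsThreeTranspositionClass D) (hperf : ⁅commutator G, commutator G⁆ = commutator G)
    (hn : 0 < M.n) {k : ℕ} (hk : ∀ x ∈ D, (dperp D x).ncard = k)
    (hdeg : (allN M.n fun a => M.deg a == k) = true) : ∀ y ∈ D, ∃ a < M.n, f a = y := by
  classical
  let S : Set G := {y | ∃ a < M.n, f a = y}
  suffices hS : S = D by
    intro y hy
    rw [← hS] at hy
    exact hy
  refine commute_closed_eq hD hperf (fun y ⟨a, ha, e⟩ => e ▸ F.mem a ha) ⟨f 0, 0, hn, rfl⟩ ?_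
  rintro _ ⟨a, ha, rfl⟩ e he hcomm
  by_cases hea : e = f a
  · exact ⟨a, ha, hea.symm⟩
  let l := (List.range M.n).filter fun b => (b != a) && M.c a b
  have hl : ∀ b ∈ l, b < M.n ∧ b ≠ a ∧ M.c a b = true := fun b hb => by
    simpa [l] using hb
  have hsub : f '' {b | b ∈ l} ⊆ dperp D (f a) := by
    rintro _ ⟨b, hb, rfl⟩
    obtain ⟨h1, h2, h3⟩ := hl b hb
    exact ⟨F.mem b h1, fun e' => h2 (F.inj hs h1 ha e'), (F.rel a ha b h1).2 h3⟩
  have hinj : Set.InjOn f {b | b ∈ l} := fun b hb c hc e' =>
    F.inj hs (hl b hb).1 (hl c hc).1 e'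
  have hcard : (f '' {b | b ∈ l}).ncard = (dperp D (f a)).ncard := by
    rw [hinj.ncard_image, hk _ (F.mem a ha), ← beq_iff_eq.1 (of_allN hdeg a ha)]
    have hnd : l.Nodup := List.nodup_range.filter _
    rw [show {b | b ∈ l} = ↑l.toFinset by ext; simp, Set.ncard_coe_finset,
      List.toFinset_card_of_nodup hnd]
    rfl
  have := Set.eq_of_subset_of_ncard_le hsub hcard.ge (Set.toFinite _)
  have hmem : e ∈ dperp D (f a) := ⟨he, hea, hcomm⟩
  rw [← this] at hmem
  obtain ⟨b, hb, hbe⟩ := hmem
  exact ⟨b, (hl b hb).1, hbe⟩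

end Cfsg.Agent.LocalLines
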