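import Cfsg.Agent.LocalLines.Lines
import Cfsg.Agent.LocalLines.Init
import Cfsg.Agent.LocalLines.Tab.RunA0
import Cfsg.Agent.LocalLines.Tab.RunA1
import Cfsg.Agent.LocalLines.Tab.RunB0
import Cfsg.Agent.LocalLines.Tab.RunB1

/-!
# The quadrangle axiom

Five members in a fixed configuration generate forty-five members as in the unitary quadrangle; as
a consequence some member of every line commutes with a given member.
-/

set_option autoImplicit false

open Cfsg

namespace Cfsg.Agent.LocalLines

open Cfsg.Agent.ThreeTrans Tab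

variable {G : Type*} [Group G] [Finite G] {D : Set G}

/-- Five members `x, v, z, z', y`. -/
structure Conf (D : Set G) (x v z z' y : G) : Prop where
  hx : x ∈ D
  hv : v ∈ D
  hz : z ∈ D
  hz' : z' ∈ D
  hy : y ∈ D
  zne : z ≠ z'
  xne : x ≠ z
  xv : ¬ Commute x v
  xz : Commute x z
  xz' : Commute x z'
  xy : Commute x y
  vz : ¬ Commute v z
  vz' : ¬ Commute v z'
  vy : Commute v y
  zz' : Commute z z'
  zy : ¬ Commute z y
  z'y : ¬ Commute z' y

/-- The starting state of five named members. -/
def seedRels : List ℕ → List (ℕ × ℕ) := fun l => l.flatMap fun a => l.map fun b => (a, b)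

variable {x v z z' y : G}

/-- The commuting relations of the five members, as a table. -/
def confTable : List (List Bool) :=
  [[true, false, true, true, true], [false, true, false, false, true],
    [true, false, true, true, false], [true, false, true, true, false],
    [true, true, false, false, true]]

theorem Conf.facts (h : Conf D x v z z' y) : ∀ i j : Fin 5,
    Commute (![x, v, z, z', y] i) (![x, v, z, z', y] j) ↔
      (confTable.getD i []).getD j false = true := by
  have n : ∀ {p q : G}, ¬ Commute p q → ¬ Commute q p := fun hn e => hn e.symm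
  intro i j
  fin_cases i <;> fin_cases j <;>
    simp [confTable, h.xv, n h.xv, h.xz, h.xz.symm, h.xz', h.xz'.symm, h.xy, h.xy.symm, h.vz, n h.vz,
      h.vz', n h.vz', h.vy, h.vy.symm, h.zz', h.zz'.symm, h.zy, n h.zy, h.z'y, n h.z'y]

theorem Conf.memD (h : Conf D x v z z' y) : ∀ i : Fin 5, ![x, v, z, z', y] i ∈ D := by
  intro i
  fin_cases i <;> simp [h.hx, h.hv, h.hz, h.hz', h.hy]

/-- Names for the five members. -/
noncomputable def seedFun (ids : Fin 5 → ℕ) (g : Fin 5 → G) : ℕ → G := Function.extend ids g fun _ => 1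

theorem seedFun_apply {ids : Fin 5 → ℕ} (hi : Function.Injective ids) (g : Fin 5 → G) (i : Fin 5) :
    seedFun ids g (ids i) = g i := hi.extend_apply _ _ i

/-- The state of five named members. -/
def seedSt (ids : Fin 5 → ℕ) : St :=
  (St.empty.adds (List.ofFn ids)).rels (seedRels (List.ofFn ids))

theorem Inv.seed {M : Table} {ids : Fin 5 → ℕ} (hi : Function.Injective ids) {g : Fin 5 → G}
    (hg : ∀ i, g i ∈ D) {tb : List (List Bool)}
    (hok : ((seedRels (List.ofFn ids)).all ((St.empty.adds (List.ofFn ids)).relOk M)) = true)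
    (htb : ∀ i j : Fin 5, M.c (ids i) (ids j) = (tb.getD i []).getD j false)
    (hrel : ∀ i j : Fin 5, Commute (g i) (g j) ↔ (tb.getD i []).getD j false = true) :
    Inv D M (seedFun ids g) (seedSt ids) := by
  refine ((Inv.empty D M _).adds fun a ha => ?_).rels hok fun p hp => ?_
  · obtain ⟨i, rfl⟩ := List.mem_ofFn.1 ha
    rw [seedFun_apply hi]
    exact hg i
  · simp only [seedRels, List.mem_flatMap, List.mem_map, List.mem_ofFn] at hp
    obtain ⟨_, ⟨i, rfl⟩, _, ⟨j, rfl⟩, rfl⟩ := hp
    rw [seedFun_apply hi, seedFun_apply hi, htb]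
    exact hrel i j

variable (S : Pre D)
include S

theorem Conf.chase {M : Table} {ids : Fin 5 → ℕ} (h : Conf D x v z z' y)
    (hi : Function.Injective ids)
    (hok : ((seedRels (List.ofFn ids)).all ((St.empty.adds (List.ofFn ids)).relOk M)) = true)
    (htb : ∀ i j : Fin 5, M.c (ids i) (ids j) = (confTable.getD i []).getD j false)
    {ops : List Step} {s0 s' : St} {w1 w : ℕ} (hs0 : seedSt ids = s0)
    (hrun : runAll M false ops s0 = some s')
    (h1 : bget s'.t (ids 3) (ids 4) = true) (k1 : M.k (ids 3) (ids 4) = w1)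
    (h2 : bget s'.t (ids 2) w1 = true) (k2 : M.k (ids 2) w1 = w) :
    ∃ f : ℕ → G, Inv D M f s' ∧ (∀ i, f (ids i) = ![x, v, z, z', y] i) ∧
      f w = z * (z' * y * z') * z := by
  subst hs0
  have I0 := Inv.seed (M := M) hi h.memD hok htb h.facts
  obtain ⟨f, hf, I⟩ := I0.runAll S.hT S.hc S.lam (five := false) (fun e => by cases e) hrun
  have hval : ∀ i, f (ids i) = ![x, v, z, z', y] i := fun i => by
    have hb : (seedSt ids).df.testBit (ids i) = true := by
      have hm : (ids i, ids i) ∈ seedRels (List.ofFn ids) := by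
        simp only [seedRels, List.mem_flatMap, List.mem_map, List.mem_ofFn]
        exact ⟨_, ⟨i, rfl⟩, _, ⟨i, rfl⟩, rfl⟩
      have h3 := List.all_eq_true.1 hok _ hm
      simp only [St.relOk, Bool.and_eq_true] at h3
      exact (show ∀ (ps : List (ℕ × ℕ)) (s : St), s.df.testBit (ids i) = true →
        (s.rels ps).df.testBit (ids i) = true from fun ps => by
          induction ps with
          | nil => exact fun s h => h
          | cons p ps ih => exact fun s h => ih _ h) _ _ h3.1.1
    rw [(hf _ hb).1, seedFun_apply hi]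
  refine ⟨f, I, hval, ?_⟩
  obtain ⟨-, -, -, e1⟩ := I.tri _ _ h1
  obtain ⟨-, -, -, e2⟩ := I.tri _ _ h2
  rw [k1, hval, hval] at e1
  rw [k2, hval, ← e1] at e2
  exact e2.symm

/-- The case distinction has only one outcome. -/
theorem Conf.not_commute (h : Conf D x v z z' y) : ¬ Commute v (z * (z' * y * z') * z) := by
  intro hvw
  obtain ⟨f, I, hval, hw⟩ := h.chase S (M := tabA) (ids := ![0, 1, 2, 3, 4]) (by decide)
    (by decide +kernel) (by decide +kernel) (ops := opsA00_0) (s0 := stA00) (by decide +kernel) runA01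
    (w1 := 9) (w := 15) (by decide +kernel) (by decide +kernel) (by decide +kernel)
    (by decide +kernel)
  have f0 : f 0 = x := hval 0
  have f1 : f 1 = v := hval 1
  have f2 : f 2 = z := hval 2
  have f3 : f 3 = z' := hval 3
  have f4 : f 4 = y := hval 4
  have I1 : Inv D tabA f stA10 := by
    have := I.rels (ps := [(1, 15)]) (by decide +kernel) (by
      intro p hp
      obtain rfl := List.mem_singleton.1 hp
      rw [f1, hw]
      exact ⟨fun _ => by decide +kernel, fun _ => hvw⟩)
    rwa [show stA01.rels [(1, 15)] = stA10 by decide +kernel] at this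
  obtain ⟨f', hf', I2⟩ := I1.runAll S.hT S.hc S.lam (five := false) (fun e => by cases e) runA11
  have F := I2.toFull S.hT (by decide +kernel)
  have hF : ∀ a, a < 5 → f' a = f a := fun a ha =>
    (hf' a ((by decide +kernel : ∀ a < 5, stA10.df.testBit a = true) a ha)).1
  rw [← hF 0 (by norm_num)] at f0
  rw [← hF 2 (by norm_num)] at f2
  rw [← hF 3 (by norm_num)] at f3
  rw [← hF 4 (by norm_num)] at f4
  have hn : tabA.n = 20 := rfl
  -- the twentieth member is x
  have e19 : f' 19 = f' 0 := by
    by_contra hne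
    have hD19 := F.mem 19 (by norm_num [hn])
    have c := fun a b (ha : a < 20) (hb : b < 20) (hc : tabA.c a b = true) =>
      (F.rel a (hn ▸ ha) b (hn ▸ hb)).2 hc
    refine h.zy ?_
    have := S.lam (f' 19) hD19 (f' 0) (F.mem 0 (by norm_num [hn])) hne
      (c 19 0 (by norm_num) (by norm_num) (by decide +kernel)) z h.hz y h.hy
      (f2 ▸ c 2 19 (by norm_num) (by norm_num) (by decide +kernel))
      (f2 ▸ c 2 0 (by norm_num) (by norm_num) (by decide +kernel))
      (f4 ▸ c 4 19 (by norm_num) (by norm_num) (by decide +kernel))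
      (f4 ▸ c 4 0 (by norm_num) (by norm_num) (by decide +kernel))
    exact this
  have e := fun b (hb : b < 20) => F.conj 1 (by norm_num [hn]) b (hn ▸ hb)
  have e' := fun b (hb : b < 20) => F.conj 10 (by norm_num [hn]) b (hn ▸ hb)
  have key : ∀ b, b < 20 → f' 10 * (f' 1 * f' b * f' 1) * f' 10 = f' (tabA.k 10 (tabA.k 1 b)) :=
    fun b hb => by
      rw [e b hb, e' _ (F.lt 1 (by norm_num [hn]) b (hn ▸ hb))]
  have h0 := key 0 (by norm_num)
  rw [← e19, key 19 (by norm_num), show tabA.k 10 (tabA.k 1 0) = 2 by decide +kernel,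
    show tabA.k 10 (tabA.k 1 19) = 3 by decide +kernel, f2, f3] at h0
  exact h.zne h0.symm

/-- The forty-five members of a configuration. -/
theorem Conf.exists_full (h : Conf D x v z z' y) :
    ∃ f : ℕ → G, Full D tabB f ∧ f 0 = x ∧ f 1 = v ∧ f 16 = z ∧ f 20 = z' ∧ f 25 = y := by
  obtain ⟨f, I, hval, hw⟩ := h.chase S (M := tabB) (ids := ![0, 1, 16, 20, 25]) (by decide)
    (by decide +kernel) (by decide +kernel) (ops := opsB00_0) (s0 := stB00) (by decide +kernel) runB01
    (w1 := tabB.k 20 25) (w := 30) (by decide +kernel) rfl (by decide +kernel) (by decide +kernel)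
  have f1 : f 1 = v := hval 1
  have I1 : Inv D tabB f stB10 := by
    have := I.rels (ps := [(1, 30)]) (by decide +kernel) (by
      intro p hp
      obtain rfl := List.mem_singleton.1 hp
      rw [f1, hw]
      exact ⟨fun e => absurd e (h.not_commute S), fun e =>
        absurd e (show ¬ tabB.c 1 30 = true by decide +kernel)⟩)
    rwa [show stB01.rels [(1, 30)] = stB10 by decide +kernel] at this
  obtain ⟨f', hf', I'⟩ := I1.runAll S.hT S.hc S.lam (five := false) (fun e => by cases e) runB11
  obtain ⟨f'', hf'', I''⟩ := I'.runAll S.hT S.hc S.lam (five := false) (fun e => by cases e) runB12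
  have hF : ∀ i : Fin 5, f'' (![0, 1, 16, 20, 25] i) = ![x, v, z, z', y] i := fun i => by
    have hb : stB10.df.testBit (![0, 1, 16, 20, 25] i) = true :=
      (by decide +kernel : ∀ i : Fin 5, stB10.df.testBit (![0, 1, 16, 20, 25] i) = true) i
    obtain ⟨e1, hb'⟩ := hf' _ hb
    rw [(hf'' _ hb').1, e1, hval]
  exact ⟨f'', I''.toFull S.hT (by decide +kernel), hF 0, hF 1, hF 2, hF 3, hF 4⟩

/-- On every line some member commutes with a given one. -/
theorem Pre.exists_on_line {x z v : G} (hx : x ∈ D) (hz : z ∈ dperp D x) (hv : v ∈ D) :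
    ∃ w ∈ lineSet D x z, Commute v w := by
  by_cases hxv : Commute x v
  · exact ⟨x, S.mem_lineSet_left hx hz, hxv.symm⟩
  by_cases hvz : Commute v z
  · exact ⟨z, S.mem_lineSet_right hz, hvz⟩
  obtain ⟨y, hy, hyv⟩ := exists_common S.hsol S.hperf S.cls hx hv hxv
  by_cases hyz : Commute y z
  · exact ⟨y, ⟨hy.1, hy.2.2.symm, hyz⟩, hyv.symm⟩
  obtain ⟨z', hz', hne, hl⟩ := S.setup.pair x hx z hz
  have hzz' : Commute z z' := hl z hz.1 hz.2.2.symm (Commute.refl z)
  by_cases hvz' : Commute v z'
  · exact ⟨z', ⟨hz'.1, hz'.2.2.symm, hzz'.symm⟩, hvz'⟩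
  have hyz' : ¬ Commute z' y := fun e => hyz <|
    S.lam x hx z' hz'.1 (Ne.symm hz'.2.1) hz'.2.2 y hy.1 z hz.1 hy.2.2.symm e.symm hz.2.2.symm hzz'
  have h : Conf D x v z z' y :=
    ⟨hx, hv, hz.1, hz'.1, hy.1, Ne.symm hne, Ne.symm hz.2.1, hxv, hz.2.2, hz'.2.2, hy.2.2, hvz,
      hvz', hyv.symm, hzz', fun e => hyz e.symm, hyz'⟩
  obtain ⟨f, F, f0, f1, f16, -, -⟩ := h.exists_full S
  have hn : tabB.n = 45 := rfl
  have c := fun a b (ha : a < 45) (hb : b < 45) (hc : tabB.c a b = true) =>
    (F.rel a (hn ▸ ha) b (hn ▸ hb)).2 hc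
  exact ⟨f 15, ⟨F.mem 15 (by norm_num [hn]), f0 ▸ c 15 0 (by norm_num) (by norm_num) (by decide +kernel),
    f16 ▸ c 15 16 (by norm_num) (by norm_num) (by decide +kernel)⟩,
    f1 ▸ c 1 15 (by norm_num) (by norm_num) (by decide +kernel)⟩

end Cfsg.Agent.LocalLines
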