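import Cfsg.Agent.LocalLines.Degree

/-!
# Lines and traces

The line of two commuting members, and the trace of two members that do not commute.
-/

set_option autoImplicit false

open Cfsg

namespace Cfsg.Agent.LocalLines

open Cfsg.Agent.ThreeTrans

variable {G : Type*} [Group G] [Finite G] {D : Set G} {x y z a b c v : G}

/-- The members commuting with two members that do not commute with each other. -/
def trace (D : Set G) (x v : G) : Set G := {c | c ∈ D ∧ Commute c x ∧ Commute c v}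

namespace Pre

variable (S : Pre D)
include S

theorem line_commute (hx : x ∈ D) (hy : y ∈ dperp D x) (ha : a ∈ lineSet D x y)
    (hb : b ∈ lineSet D x y) : Commute a b :=
  S.lam x hx y hy.1 (Ne.symm hy.2.1) hy.2.2 a ha.1 b hb.1 ha.2.1 ha.2.2 hb.2.1 hb.2.2

theorem mem_lineSet_left (hx : x ∈ D) (hy : y ∈ dperp D x) : x ∈ lineSet D x y :=
  ⟨hx, Commute.refl x, hy.2.2⟩

theorem mem_lineSet_right (hy : y ∈ dperp D x) : y ∈ lineSet D x y :=
  ⟨hy.1, hy.2.2.symm, Commute.refl y⟩

/-- Two members of a line determine it. -/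
theorem lineSet_eq (hx : x ∈ D) (hy : y ∈ dperp D x) (ha : a ∈ lineSet D x y)
    (hb : b ∈ lineSet D x y) (hab : a ≠ b) : lineSet D a b = lineSet D x y := by
  have hc := S.line_commute hx hy ha hb
  refine Set.ext fun c => ⟨fun ⟨hc1, h1, h2⟩ => ⟨hc1, ?_, ?_⟩, fun h => ⟨h.1, ?_, ?_⟩⟩
  · exact S.lam a ha.1 b hb.1 hab hc c hc1 x hx h1 h2 ha.2.1.symm hb.2.1.symm
  · exact S.lam a ha.1 b hb.1 hab hc c hc1 y hy.1 h1 h2 ha.2.2.symm hb.2.2.symm
  · exact S.line_commute hx hy h ha
  · exact S.line_commute hx hy h hb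

/-- On a line at most one member commutes with a member that does not commute with all of it. -/
theorem line_unique (hx : x ∈ D) (hy : y ∈ dperp D x) (hv : v ∈ D) (hvx : ¬ Commute v x)
    (ha : a ∈ lineSet D x y) (hb : b ∈ lineSet D x y) (h1 : Commute v a) (h2 : Commute v b) :
    a = b := by
  by_contra hne
  exact hvx (S.lam a ha.1 b hb.1 hne (S.line_commute hx hy ha hb) v hv x hx h1 h2
    ha.2.1.symm hb.2.1.symm)

/-- All lines have equally many members. -/
theorem line_card (hx : x ∈ D) (hy : y ∈ dperp D x) (ha : a ∈ D) (hb : b ∈ dperp D a) :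
    (lineSet D x y).ncard = (lineSet D a b).ncard := by
  obtain ⟨g, g1, g2⟩ := S.setup.trans hx hy ha hb
  have : lineSet D x y = (fun c => g * c * g⁻¹) '' lineSet D a b := by
    refine Set.ext fun c => ⟨fun hc => ⟨g⁻¹ * c * g, ⟨?_, ?_, ?_⟩, by group⟩, ?_⟩
    · simpa using S.hc g⁻¹ c hc.1
    · rw [← commute_conj g, g1, show g * (g⁻¹ * c * g) * g⁻¹ = c by group]; exact hc.2.1
    · rw [← commute_conj g, g2, show g * (g⁻¹ * c * g) * g⁻¹ = c by group]; exact hc.2.2
    · rintro ⟨c, hc, rfl⟩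
      refine ⟨S.hc g c hc.1, ?_, ?_⟩
      · show Commute (g * c * g⁻¹) x
        rw [← g1]
        exact (commute_conj g c a).2 hc.2.1
      · show Commute (g * c * g⁻¹) y
        rw [← g2]
        exact (commute_conj g c b).2 hc.2.2
  rw [this, Set.ncard_image_of_injective _ fun u w h => mul_left_cancel (mul_right_cancel h)]

theorem three_le_line (hx : x ∈ D) (hy : y ∈ dperp D x) : 3 ≤ (lineSet D x y).ncard := by
  obtain ⟨w, hw, hne, hl⟩ := S.setup.pair x hx y hy
  have h1 : w ∈ lineSet D x y := ⟨hw.1, hw.2.2.symm,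
    (hl y hy.1 hy.2.2.symm (Commute.refl y)).symm⟩
  have h2 : ({x, y, w} : Set G).ncard ≤ (lineSet D x y).ncard := by
    refine Set.ncard_le_ncard ?_ (Set.toFinite _)
    rintro c (rfl | rfl | rfl)
    exacts [S.mem_lineSet_left hx hy, S.mem_lineSet_right hy, h1]
  rwa [Set.ncard_eq_three.2 ⟨x, y, w, Ne.symm hy.2.1, Ne.symm hw.2.1, Ne.symm hne, rfl⟩] at h2

theorem trace_subset (hx : x ∈ D) (hv : v ∈ D) (hxv : ¬ Commute x v) :
    trace D x v ⊆ dperp D x := fun c hc =>
  ⟨hc.1, fun e => hxv (e ▸ hc.2.2), hc.2.1.symm⟩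

theorem trace_indep (hx : x ∈ D) (hv : v ∈ D) (hxv : ¬ Commute x v) :
    ∀ p ∈ trace D x v, ∀ q ∈ trace D x v, Commute p q → p = q := fun p hp q hq h => by
  by_contra hne
  exact hxv (S.lam p hp.1 q hq.1 hne h x hx v hv hp.2.1.symm hq.2.1.symm hp.2.2.symm hq.2.2.symm)

/-- The number of partners is the same for all members. -/
theorem ncard_dperp (hx : x ∈ D) (ha : a ∈ D) : (dperp D x).ncard = (dperp D a).ncard := by
  obtain ⟨g, rfl⟩ := class_isConj S.cls ha hx
  have : dperp D (g * a * g⁻¹) = (fun c => g * c * g⁻¹) '' dperp D a := by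
    refine Set.ext fun c => ⟨fun hc => ⟨g⁻¹ * c * g, ?_, by group⟩, ?_⟩
    · have := dperp_conj S.hc g⁻¹ hc
      simpa [mul_assoc] using this
    · rintro ⟨c, hc, rfl⟩
      exact dperp_conj S.hc g hc
  rw [this, Set.ncard_image_of_injective _ fun u w h => mul_left_cancel (mul_right_cancel h)]

end Pre

end Cfsg.Agent.LocalLines
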