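import Cfsg.Agent.LocalLines.Action
import Cfsg.Agent.LocalLines.Tab.RunS

/-!
# Fifteen transpositions
-/

set_option autoImplicit false

open Cfsg

namespace Cfsg.Agent.LocalLines

open Cfsg.Agent.ThreeTrans Tab

/-- The transpositions of six letters, in the order of the table. -/
def swaps6 (a : Fin 15) : Equiv.Perm (Fin 6) :=
  (![Equiv.swap 0 1, Equiv.swap 0 2, Equiv.swap 0 3, Equiv.swap 0 4, Equiv.swap 0 5, Equiv.swap 1 2,
    Equiv.swap 1 3, Equiv.swap 1 4, Equiv.swap 1 5, Equiv.swap 2 3, Equiv.swap 2 4, Equiv.swap 2 5,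
    Equiv.swap 3 4, Equiv.swap 3 5, Equiv.swap 4 5] : Fin 15 → Equiv.Perm (Fin 6)) a

theorem swaps6_surj : ∀ i j : Fin 6, i ≠ j → ∃ a, swaps6 a = Equiv.swap i j := by decide +kernel

theorem swaps6_inj : Function.Injective swaps6 := by
  intro a b
  revert a b
  decide +kernel

theorem swaps6_conj : ∀ a b : Fin 15,
    ((tabS.k a b : ℕ) < 15) ∧ ∀ c : Fin 15, (c : ℕ) = tabS.k a b →
      swaps6 a * swaps6 b * swaps6 a = swaps6 c := by decide +kernel

/-- The permutations of six letters act on the fifteen transpositions as the table says. -/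
theorem exists_sym_action : ∃ ψ : Equiv.Perm (Fin 6) →* Equiv.Perm (Fin 15),
    Function.Injective ψ ∧ ψ.range = Subgroup.closure (tablePerms tabS) := by
  classical
  have hswap : ∀ a, (swaps6 a).IsSwap := by
    have h : ∀ a : Fin 15, ∃ i j : Fin 6, i ≠ j ∧ swaps6 a = Equiv.swap i j := by decide +kernel
    exact fun a => h a
  have hconj : ∀ (g : Equiv.Perm (Fin 6)) a, ∃ b, swaps6 b = g * swaps6 a * g⁻¹ := by
    intro g a
    obtain ⟨i, j, hij, e⟩ := hswap a
    obtain ⟨b, hb⟩ := swaps6_surj (g i) (g j) (fun h => hij (g.injective h))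
    refine ⟨b, ?_⟩
    rw [hb, e, Equiv.swap_apply_apply]
  choose sm hsm using hconj
  let _ : MulAction (Equiv.Perm (Fin 6)) (Fin 15) :=
    { smul := sm
      one_smul := fun b => swaps6_inj (by show swaps6 (sm 1 b) = swaps6 b; rw [hsm]; simp)
      mul_smul := fun g k b => swaps6_inj (by
        show swaps6 (sm (g * k) b) = swaps6 (sm g (sm k b))
        rw [hsm, hsm, hsm]; group) }
  let ψ := MulAction.toPermHom (Equiv.Perm (Fin 6)) (Fin 15)
  have hψ : ∀ g b, swaps6 (ψ g b) = g * swaps6 b * g⁻¹ := hsm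
  have hinv : ∀ a, (swaps6 a)⁻¹ = swaps6 a := fun a => by
    obtain ⟨i, j, -, e⟩ := hswap a
    rw [e, Equiv.swap_inv]
  have hgen : Subgroup.closure (Set.range swaps6) = ⊤ := by
    rw [eq_top_iff, ← Equiv.Perm.closure_isSwap (α := Fin 6)]
    refine Subgroup.closure_mono ?_
    rintro _ ⟨i, j, hij, rfl⟩
    exact swaps6_surj i j hij
  refine ⟨ψ, ?_, ?_⟩
  · rw [← MonoidHom.ker_eq_bot_iff, Subgroup.eq_bot_iff_forall]
    intro g hg
    have hc : ∀ a, g * swaps6 a = swaps6 a * g := fun a => by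
      have := hψ g a
      rw [MonoidHom.mem_ker.1 hg] at this
      calc g * swaps6 a = g * swaps6 a * g⁻¹ * g := by group
        _ = swaps6 a * g := by rw [← this]; rfl
    refine Equiv.ext fun i => ?_
    obtain ⟨j, k, hj, hk, hjk⟩ := (by decide +kernel :
      ∀ i : Fin 6, ∃ j k : Fin 6, i ≠ j ∧ i ≠ k ∧ j ≠ k) i
    have hmove : ∀ j, i ≠ j → g i = i ∨ g i = j := fun j hij => by
      obtain ⟨a, ha⟩ := swaps6_surj i j hij
      by_contra hne
      push Not at hne
      have h1 := congrArg (fun σ : Equiv.Perm (Fin 6) => σ i) (hc a)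
      simp only [Equiv.Perm.mul_apply, ha, Equiv.swap_apply_left,
        Equiv.swap_apply_of_ne_of_ne hne.1 hne.2] at h1
      exact hij (g.injective h1).symm
    rcases hmove j hj with h | h
    · exact h
    · rcases hmove k hk with h' | h'
      · exact h'
      · exact absurd (h.symm.trans h') hjk
  · rw [MonoidHom.range_eq_map, ← hgen, MonoidHom.map_closure]
    congr 1
    refine Set.ext fun π => ⟨?_, ?_⟩
    · rintro ⟨_, ⟨a, rfl⟩, rfl⟩
      refine ⟨a, fun (b : Fin 15) => ?_⟩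
      obtain ⟨hlt, h⟩ := swaps6_conj a b
      have : ψ (swaps6 a) b = ⟨_, hlt⟩ := swaps6_inj (by rw [hψ, hinv, h ⟨_, hlt⟩ rfl])
      exact congrArg Fin.val this
    · rintro ⟨(a : Fin 15), ha⟩
      refine ⟨swaps6 a, ⟨a, rfl⟩, Equiv.ext fun (b : Fin 15) => ?_⟩
      obtain ⟨hlt, h⟩ := swaps6_conj a b
      have : ψ (swaps6 a) b = ⟨_, hlt⟩ := swaps6_inj (by rw [hψ, hinv, h ⟨_, hlt⟩ rfl])
      exact Fin.ext ((congrArg Fin.val this).trans (ha b).symm)

end Cfsg.Agent.LocalLines
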