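import Cfsg.Agent.LocalLines.Action
import Cfsg.Agent.LocalLines.Tab.TableB
import Cfsg.Agent.LocalLines.Tab.TableC
import Cfsg.Agent.LocalLines.Tab.Vectors
import Cfsg.Agent.ThreeTrans.SU32
import Cfsg.Agent.Classical.UnitaryGroup

/-!
# The unitary groups over the field with four elements by tables
-/

set_option autoImplicit false

open Cfsg

namespace Cfsg.Agent.LocalLines

open Cfsg.Agent.Classical Cfsg.Agent.Classical.Herm Cfsg.Agent.ThreeTrans SU32 Tab Module

/-- The product on codes. -/
def mulc (a b : ℕ) : ℕ := (0x9c78e400 >>> (2 * (4 * a + b))) &&& 3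

/-- The element with a code. -/
def el : ℕ → F4
  | 1 => .e
  | 2 => .w
  | 3 => .w'
  | _ => .o

/-- The code of an element. -/
def cd : F4 → ℕ
  | .o => 0
  | .e => 1
  | .w => 2
  | .w' => 3

theorem el_xor : ∀ a < 4, ∀ b < 4, el (a ^^^ b) = el a + el b ∧ a ^^^ b < 4 := by decide +kernel

theorem el_mulc : ∀ a < 4, ∀ b < 4, el (mulc a b) = el a * el b ∧ mulc a b < 4 := by decide +kernel

theorem frob_el : ∀ a < 4, F4.frob (el a) = el (mulc a a) ∧ mulc a a < 4 := by decide +kernel

theorem el_zero : el 0 = 0 := rfl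

theorem el_inj : ∀ a < 4, ∀ b < 4, el a = el b → a = b := by decide +kernel

theorem el_cd : ∀ x : F4, el (cd x) = x ∧ cd x < 4 := by decide +kernel

/-- A coordinate of a coded vector. -/
def dg (m i : ℕ) : ℕ := (m >>> (2 * i)) &&& 3

theorem dg_lt (m i : ℕ) : dg m i < 4 := Nat.lt_succ_of_le Nat.and_le_right

/-- The vector with a code. -/
def toV (n m : ℕ) : Fin n → F4 := fun i => el (dg m i)

/-- The Hermitian product on codes. -/
def hc : ℕ → ℕ → ℕ → ℕ
  | 0, _, _ => 0
  | n + 1, u, v => hc n u v ^^^ mulc (mulc (dg u n) (dg u n)) (dg v n)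

theorem hc_spec : ∀ n u v, el (hc n u v) = hermB n F4.frob (toV n u) (toV n v) ∧ hc n u v < 4
  | 0, u, v => ⟨by rw [hermB_apply]; simp [hc, el_zero], by simp [hc]⟩
  | n + 1, u, v => by
    obtain ⟨h1, h2⟩ := hc_spec n u v
    obtain ⟨e1, e2⟩ := frob_el _ (dg_lt u n)
    obtain ⟨e3, e4⟩ := el_mulc _ e2 _ (dg_lt v n)
    obtain ⟨e5, e6⟩ := el_xor _ h2 _ e4
    refine ⟨?_, e6⟩
    rw [hc, e5, h1, e3, ← e1, hermB_apply, hermB_apply, Fin.sum_univ_castSucc]
    rfl

/-- The vector of a point. -/
def vec (V a : ℕ) : ℕ := (V >>> (10 * a)) &&& 1023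

/-- The point of a vector. -/
def pidx (I m : ℕ) : ℕ := (I >>> (8 * m)) &&& 255

/-- `w` is `s` times `v` plus `h` times `u`. -/
def combOk (n u v w h s : ℕ) : Bool :=
  allN n fun i => dg v i ^^^ mulc h (dg u i) == mulc s (dg w i)

/-- The points and the table fit. -/
def pairsOk (M : Table) (n V : ℕ) : Bool :=
  allN M.n fun a => !(hc n (vec V a) (vec V a) != 0) &&
    !(allN n fun i => dg (vec V a) i == 0) &&
    allN M.n fun b =>
      ((hc n (vec V a) (vec V b) == 0) == M.c a b) && Nat.blt (M.k a b) M.n &&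
        (combOk n (vec V a) (vec V b) (vec V (M.k a b)) (hc n (vec V a) (vec V b)) 1 ||
          combOk n (vec V a) (vec V b) (vec V (M.k a b)) (hc n (vec V a) (vec V b)) 2 ||
          combOk n (vec V a) (vec V b) (vec V (M.k a b)) (hc n (vec V a) (vec V b)) 3)

/-- Every isotropic vector is a multiple of one in the list. -/
def coverOk (M : Table) (n V I : ℕ) : Bool :=
  allN (4 ^ n) fun m => (hc n m m != 0) || (allN n fun i => dg m i == 0) ||
    (Nat.blt (pidx I m) M.n &&
      ((allN n fun i => dg m i == mulc 1 (dg (vec V (pidx I m)) i)) ||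
        (allN n fun i => dg m i == mulc 2 (dg (vec V (pidx I m)) i)) ||
        (allN n fun i => dg m i == mulc 3 (dg (vec V (pidx I m)) i))))

theorem exists_code : ∀ (n : ℕ) (x : Fin n → F4), ∃ m < 4 ^ n, toV n m = x
  | 0, x => ⟨0, by norm_num, funext fun i => i.elim0⟩
  | n + 1, x => by
    obtain ⟨m, hm, e⟩ := exists_code n (fun i => x i.castSucc)
    obtain ⟨ec, hc'⟩ := el_cd (x (Fin.last n))
    have h4 : (4 : ℕ) ^ n = 2 ^ (2 * n) := by rw [pow_mul]; norm_num
    refine ⟨cd (x (Fin.last n)) * 4 ^ n + m, ?_, funext fun i => ?_⟩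
    · rw [pow_succ]; nlinarith
    · refine Fin.lastCases ?_ (fun i => ?_) i
      · show el (dg _ n) = _
        have : dg (cd (x (Fin.last n)) * 4 ^ n + m) n = cd (x (Fin.last n)) := by
          rw [dg, Nat.shiftRight_eq_div_pow, ← h4, Nat.mul_comm, Nat.mul_add_div (by positivity),
            Nat.div_eq_of_lt hm, add_zero, Nat.and_two_pow_sub_one_eq_mod _ 2]
          exact Nat.mod_eq_of_lt hc'
        rw [this, ec]
      · have : dg (cd (x (Fin.last n)) * 4 ^ n + m) i = dg m i := by
          have hi : 2 * (i : ℕ) + 2 ≤ 2 * n := by have := i.2; omega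
          rw [dg, dg, Nat.shiftRight_eq_div_pow, Nat.shiftRight_eq_div_pow,
            Nat.and_two_pow_sub_one_eq_mod _ 2, Nat.and_two_pow_sub_one_eq_mod _ 2, h4]
          obtain ⟨t, ht⟩ := Nat.le.dest hi
          rw [← ht, pow_add, pow_add, ← mul_assoc, mul_comm (cd _) _, mul_assoc, mul_assoc,
            Nat.mul_add_div (by positivity), Nat.mul_add_mod]
        show el (dg _ (i : ℕ)) = _
        rw [this]
        exact congrFun e i

/-- The special unitary group acts on the points as the table says, with the centre as kernel. -/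
theorem exists_unitary_action {M : Table} (n V I : ℕ) (hn : 4 ≤ n) (hsep : M.sep = true)
    (hp : pairsOk M n V = true) (hcov : coverOk M n V I = true) :
    ∃ ψ : suG (hermB n F4.frob) →* Equiv.Perm (Fin M.n),
      ψ.ker = Subgroup.center (suG (hermB n F4.frob)) ∧
      ψ.range = Subgroup.closure (tablePerms M) := by
  classical
  set B := hermB n F4.frob with hB0
  have hB : IsHerm B := hermB_isHerm F4.frob_invol n
  have hn' : finrank F4 (Fin n → F4) = n := Module.finrank_fin_fun F4
  set v : ℕ → Fin n → F4 := fun a => toV n (vec V a) with hvdef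
  have hz : ∀ u : ℕ, (allN n fun i => dg u i == 0) = true → toV n u = 0 := fun u h => funext fun i => by
    show el (dg u i) = 0
    rw [beq_iff_eq.1 (of_allN h i i.2), el_zero]
  have hzero : ∀ p q, hc n p q = 0 ↔ B (toV n p) (toV n q) = 0 := fun p q => by
    obtain ⟨h1, h2⟩ := hc_spec n p q
    rw [← h1, ← el_zero]
    exact ⟨congrArg el, el_inj _ h2 0 (by norm_num)⟩
  have key : ∀ a < M.n, (B (v a) (v a) = 0 ∧ v a ≠ 0) ∧ ∀ b < M.n,
      (B (v a) (v b) = 0 ↔ M.c a b = true) ∧
        ∃ s : F4, s • v (M.k a b) = v b + B (v a) (v b) • v a := by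
    intro a ha
    have h := of_allN hp a ha
    simp only [Bool.and_eq_true, Bool.not_eq_true', bne_eq_false_iff_eq] at h
    obtain ⟨⟨h1, h2⟩, h3⟩ := h
    refine ⟨⟨(hzero _ _).1 h1, fun e => ?_⟩, fun b hb => ?_⟩
    · apply Bool.false_ne_true
      rw [← h2]
      refine (?_ : (allN n fun i => dg (vec V a) i == 0) = true)
      have hall : ∀ m, m ≤ n → (allN m fun i => dg (vec V a) i == 0) = true := by
        intro m
        induction m with
        | zero => exact fun _ => rfl
        | succ m ih =>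
          intro hm
          rw [allN, Bool.and_eq_true, beq_iff_eq]
          refine ⟨el_inj _ (dg_lt _ _) 0 (by norm_num) ?_, ih (by omega)⟩
          exact (congrFun e ⟨m, by omega⟩).trans el_zero.symm
      exact hall n le_rfl
    · have h4 := of_allN h3 b hb
      simp only [Bool.and_eq_true, Bool.or_eq_true, beq_iff_eq, Nat.blt_eq] at h4
      obtain ⟨⟨h5, -⟩, h6⟩ := h4
      refine ⟨?_, ?_⟩
      · rw [← hzero, ← beq_iff_eq (a := hc n _ _), h5]
      · obtain ⟨e7, h7⟩ := hc_spec n (vec V a) (vec V b)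
        have one : ∀ s < 4, combOk n (vec V a) (vec V b) (vec V (M.k a b))
            (hc n (vec V a) (vec V b)) s = true → ∃ s : F4, s • v (M.k a b) = v b + B (v a) (v b) • v a := by
          intro s hs h
          refine ⟨el s, funext fun i => ?_⟩
          have h8 := beq_iff_eq.1 (of_allN h i i.2)
          obtain ⟨x1, x2⟩ := el_mulc _ h7 _ (dg_lt (vec V a) i)
          obtain ⟨x3, -⟩ := el_xor _ (dg_lt (vec V b) i) _ x2
          rw [h8, (el_mulc _ hs _ (dg_lt _ _)).1, x1, e7] at x3
          exact x3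
        rcases h6 with (h | h) | h
        exacts [one 1 (by norm_num) h, one 2 (by norm_num) h, one 3 (by norm_num) h]
  -- the points
  let P : Fin M.n → Iso B := fun a => pt (v a) (key a a.2).1.2 (key a a.2).1.1
  have hlt : ∀ c < M.n, M.com c < 2 ^ M.n := fun c hc => by
    have := of_allN hsep c hc
    simp only [Bool.and_eq_true, Nat.blt_eq] at this
    exact this.1
  have hPinj : Function.Injective P := by
    intro a b h
    obtain ⟨s, hs⟩ := (pt_eq_iff _ _ _ _).1 h
    have hs0 : s ≠ 0 := fun e => (key a a.2).1.2 (by rw [← hs, e, zero_smul])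
    have h1 := of_allN hsep a a.2
    simp only [Bool.and_eq_true] at h1
    have h2 := of_allN h1.2 b b.2
    simp only [Bool.or_eq_true, beq_iff_eq, Bool.not_eq_true', beq_eq_false_iff_ne] at h2
    refine Fin.ext (h2.resolve_right fun hne => hne (Nat.eq_of_testBit_eq fun i => ?_))
    rcases lt_or_ge i M.n with hi | hi
    · show M.c a i = M.c b i
      rw [Bool.eq_iff_iff, ← ((key a a.2).2 i hi).1, ← ((key b b.2).2 i hi).1, ← hs]
      simp [hs0, (map_ne_zero F4.frob).2 hs0]
    · rw [Nat.testBit_lt_two_pow ((hlt a a.2).trans_le (Nat.pow_le_pow_right (by norm_num) hi)),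
        Nat.testBit_lt_two_pow ((hlt b b.2).trans_le (Nat.pow_le_pow_right (by norm_num) hi))]
  have hPsurj : Function.Surjective P := by
    intro p
    obtain ⟨u, hu0, hu, rfl⟩ := exists_pt p
    obtain ⟨m, hm, rfl⟩ := exists_code n u
    have h := of_allN hcov m hm
    simp only [Bool.or_eq_true, Bool.and_eq_true, bne_iff_ne, Nat.blt_eq] at h
    rcases h with (h | h) | ⟨hlt', h⟩
    · exact absurd ((hzero m m).2 hu) h
    · exact absurd (hz m h) hu0
    · have one : ∀ s < 4, (allN n fun i => dg m i == mulc s (dg (vec V (pidx I m)) i)) = true →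
          ∃ a, P a = pt (toV n m) hu0 hu := fun s hs h => by
        refine ⟨⟨pidx I m, hlt'⟩, Eq.symm ((pt_eq_iff _ _ _ _).2 ⟨el s, funext fun i => ?_⟩)⟩
        show el s * el (dg (vec V (pidx I m)) i) = el (dg m i)
        rw [beq_iff_eq.1 (of_allN h i i.2), (el_mulc _ hs _ (dg_lt _ _)).1]
      rcases h with (h | h) | h
      exacts [one 1 (by norm_num) h, one 2 (by norm_num) h, one 3 (by norm_num) h]
  let e : Fin M.n ≃ Iso B := Equiv.ofBijective P ⟨hPinj, hPsurj⟩
  let ψ : suG B →* Equiv.Perm (Fin M.n) :=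
    e.symm.permCongrHom.toMonoidHom.comp (MulAction.toPermHom (suG B) (Iso B))
  have hψ : ∀ g b, P (ψ g b) = g • P b := fun g b => e.apply_symm_apply _
  refine ⟨ψ, le_antisymm (fun g hg => ?_) (fun g hg => ?_), ?_⟩
  · obtain ⟨a, ha⟩ := scalar_of_fix_iso hB (by omega) (g := g) fun p => by
      obtain ⟨b, rfl⟩ := hPsurj p
      have := hψ g b
      rw [MonoidHom.mem_ker.1 hg] at this
      exact this.symm
    exact scalar_mem_center hB ha
  · rw [MonoidHom.mem_ker]
    ext b
    exact congrArg Fin.val (hPinj ((hψ g b).trans (center_fix_iso hB hg _)))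
  · have hgen : Subgroup.closure {t : suG B | ∃ (u : Fin n → F4) (hu : B u u = 0) (c : F4),
        c + F4.frob c = 0 ∧ t.1 = tvU hu c} = ⊤ := by
      refine eq_top_iff.2 fun g _ => ?_
      suffices TUon B ⊤ ≤ (Subgroup.closure _).map (suG B).subtype by
        obtain ⟨g', hg', he⟩ := this ((suG_eq_TUon hB (by omega) (Or.inr (by omega))).ge g.2)
        exact Subtype.ext he ▸ hg'
      refine (Subgroup.closure_le _).2 ?_
      rintro t ⟨u, -, c, hu, hcc, ht⟩
      exact ⟨⟨tvU hu c, tvU_mem hB hu hcc⟩, Subgroup.subset_closure ⟨u, hu, c, hcc, rfl⟩,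
        LinearEquiv.ext fun x => (ht x).symm⟩
    have h1 : (1 : F4) + F4.frob 1 = 0 := by decide +kernel
    -- a transvection of a listed vector acts as its row of the table
    have hrow : ∀ a : Fin M.n, ∀ b : Fin M.n,
        ((ψ ⟨tvU (key a a.2).1.1 1, tvU_mem hB _ h1⟩ b : Fin M.n) : ℕ) = M.k a b := by
      intro a b
      obtain ⟨hk, s, hs⟩ := ((key a a.2).2 b b.2)
      have hk' : M.k a b < M.n := by
        have h4 := of_allN hp a a.2
        simp only [Bool.and_eq_true] at h4
        have h5 := of_allN h4.2 b b.2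
        simp only [Bool.and_eq_true, Nat.blt_eq] at h5
        exact h5.1.2
      suffices ψ ⟨tvU (key a a.2).1.1 1, tvU_mem hB _ h1⟩ b = ⟨_, hk'⟩ from congrArg Fin.val this
      refine hPinj ((hψ _ b).trans ?_)
      rw [smul_pt, pt_eq_iff]
      exact ⟨s, by rw [tvU_apply, one_mul]; exact hs⟩
    rw [MonoidHom.range_eq_map, ← hgen, MonoidHom.map_closure]
    refine le_antisymm ((Subgroup.closure_le _).2 ?_) ((Subgroup.closure_le _).2 ?_)
    · rintro _ ⟨t, ⟨u, hu, c, hcc, ht⟩, rfl⟩
      by_cases hc0 : c = 0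
      · have : t = 1 := Subtype.ext (LinearEquiv.ext fun x => by rw [ht, tvU_apply, hc0]; simp)
        rw [this, map_one]; exact one_mem _
      by_cases hu0 : u = 0
      · have : t = 1 := Subtype.ext (LinearEquiv.ext fun x => by rw [ht, tvU_apply, hu0]; simp)
        rw [this, map_one]; exact one_mem _
      have hc1 : c = 1 := (by decide +kernel : ∀ c : F4, c + F4.frob c = 0 → c ≠ 0 → c = 1) c hcc hc0
      obtain ⟨a, ha⟩ := hPsurj (pt u hu0 hu)
      obtain ⟨s, hs⟩ := (pt_eq_iff _ _ _ _).1 ha.symm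
      have hs0 : s ≠ 0 := fun e' => hu0 (by rw [← hs, e', zero_smul])
      have hN : ∀ s : F4, s ≠ 0 → s * F4.frob s = 1 := by decide +kernel
      have : t = ⟨tvU (key a a.2).1.1 1, tvU_mem hB _ h1⟩ := Subtype.ext <| LinearEquiv.ext fun x => by
        rw [ht, tvU_apply, tvU_apply, ← hs, hc1, map_smulₛₗ, LinearMap.smul_apply, smul_eq_mul,
          one_mul, one_mul, smul_smul, mul_comm (F4.frob s), mul_assoc, mul_comm (F4.frob s), hN s hs0,
          mul_one]
      rw [this]
      exact Subgroup.subset_closure ⟨a, hrow a⟩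
    · rintro π ⟨a, ha⟩
      refine Subgroup.subset_closure ⟨⟨tvU (key a a.2).1.1 1, tvU_mem hB _ h1⟩,
        ⟨_, (key a a.2).1.1, 1, h1, rfl⟩, Equiv.ext fun b => Fin.ext ((hrow a b).trans (ha b).symm)⟩

/-- A class whose table is that of the points is that of the projective group. -/
theorem Full.iso_psu {G : Type*} [Group G] [Finite G] {D : Set G} {M : Table} {f : ℕ → G}
    (F : Full D M f) (hsep : M.sep = true) (hD : IsThreeTranspositionClass D)
    (hall : ∀ y ∈ D, ∃ a < M.n, f a = y) (hz : Subgroup.center G = ⊥) (n V I : ℕ) (hn : 4 ≤ n)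
    (hp : pairsOk M n V = true) (hcov : coverOk M n V I = true) :
    Nonempty (G ≃* PSU n F4 2) := by
  obtain ⟨ψ, hker, hr⟩ := exists_unitary_action n V I hn hsep hp hcov
  obtain ⟨e⟩ := F.iso_quot hsep hD hall hz ψ hr
  have hσ : ∀ x, F4.frob x = x ^ 2 := F4.frob_pow
  have hmap : (Subgroup.center (Cfsg.SU n F4 2)).map (suEquiv n hσ).toMonoidHom
      = Subgroup.center (suG (hermB n F4.frob)) := by
    ext x
    simp only [Subgroup.mem_map, Subgroup.mem_center_iff]
    constructor
    · rintro ⟨y, hy, rfl⟩ g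
      obtain ⟨g', rfl⟩ := (suEquiv n hσ).surjective g
      simp only [MulEquiv.coe_toMonoidHom, ← map_mul, hy g']
    · intro hx
      refine ⟨(suEquiv n hσ).symm x, fun g => (suEquiv n hσ).injective ?_, by simp⟩
      simp [hx]
  exact ⟨(e.trans (QuotientGroup.quotientMulEquivOfEq hker)).trans
    (QuotientGroup.congr _ _ (suEquiv n hσ) hmap).symm⟩

end Cfsg.Agent.LocalLines
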