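import Cfsg.Agent.LocalLines.Outer
import Cfsg.Agent.LocalLines.Sym
import Cfsg.Agent.LocalLines.Unitary
import Cfsg.Agent.LocalTwins.Main

/-!
# Fischer: a solvable local subgroup leaves four groups
-/

set_option autoImplicit false

open Cfsg

namespace Cfsg.Agent.LocalLines

open Cfsg.Agent.ThreeTrans Tab

variable {G : Type*} [Group G] [Finite G] {D : Set G}

/-- The table of the chain of five. -/
def chainTable : List (List Bool) :=
  [[true, false, true, true, true], [false, true, false, true, true],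
    [true, false, true, false, true], [true, true, false, true, false],
    [true, true, true, false, true]]

namespace Pre

variable (S : Pre D)
include S

theorem exists_not_commute_dperp {a b : G} (ha : a ∈ D) (hb : b ∈ dperp D a) :
    ∃ q ∈ dperp D a, ¬ Commute q b := by
  by_contra hcon
  push Not at hcon
  obtain ⟨p, hp, q, hq, hpq⟩ := S.not_abelian ha
  exact hpq (commute_coe.1 (S.lam a ha b hb.1 (Ne.symm hb.2.1) hb.2.2 p hp.1 q hq.1 hp.2.2.symm
    (hcon p hp) hq.2.2.symm (hcon q hq)))

theorem iso_six (h3 : ∀ a ∈ D, ∀ b ∈ dperp D a, (lineSet D a b).ncard = 3)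
    (hk : ∀ a ∈ D, (dperp D a).ncard = 6)
    (hT : ∀ a ∈ D, ∀ b ∈ D, ¬ Commute a b → (trace D a b).ncard = 3)
    (hz : Subgroup.center G = ⊥) : Nonempty (G ≃* Equiv.Perm (Fin 6)) := by
  obtain ⟨x, hx, v, hv, hxv⟩ := S.nonab
  obtain ⟨z, hzd, hzv⟩ := exists_dperp_not_commute S.hsol S.cls hx hv hxv
  obtain ⟨e, he, hev⟩ := S.exists_on_line hx hzd hv
  obtain ⟨y, hy, hye⟩ := Set.exists_ne_of_one_lt_ncard (by rw [hT x hx v hv hxv]; norm_num) e
  have het : e ∈ trace D x v := ⟨he.1, he.2.1, hev.symm⟩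
  have nye : ¬ Commute y e := fun h => hye (S.trace_indep hx hv hxv y hy e het h)
  have nyz : ¬ Commute z y := fun h => hye (S.line_unique hx hzd hv (fun e => hxv e.symm)
    ⟨hy.1, hy.2.1, h.symm⟩ he hy.2.2.symm hev)
  have n : ∀ {p q : G}, ¬ Commute p q → ¬ Commute q p := fun hn e => hn e.symm
  have hrel : ∀ i j : Fin 5, Commute (![x, v, z, y, e] i) (![x, v, z, y, e] j) ↔
      (chainTable.getD i []).getD j false = true := by
    intro i j
    fin_cases i <;> fin_cases j <;>
      simp [chainTable, hxv, n hxv, hzd.2.2, hzd.2.2.symm, hy.2.1, hy.2.1.symm, he.2.1, he.2.1.symm,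
        hzv, n hzv, hy.2.2, hy.2.2.symm, hev, hev.symm, nyz, n nyz, nye, n nye, he.2.2, he.2.2.symm]
  have hmem : ∀ i : Fin 5, ![x, v, z, y, e] i ∈ D := by
    intro i
    fin_cases i <;> simp [hx, hv, hzd.1, hy.1, he.1]
  have I0 := Inv.seed (M := tabS) (ids := ![0, 5, 9, 12, 14]) (by decide) hmem (tb := chainTable)
    (by decide +kernel) (by decide +kernel) hrel
  rw [show seedSt ![0, 5, 9, 12, 14] = stS0 by decide +kernel] at I0
  obtain ⟨f, -, I⟩ := I0.runAll S.hT S.hc S.lam (five := false) (fun e => by cases e) runS1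
  have F := I.toFull S.hT (by decide +kernel)
  have hs : tabS.sep = true := by decide +kernel
  have hall := F.exists_eq hs S.cls S.hperf (by decide) hk (by decide +kernel)
  obtain ⟨ψ, hinj, hr⟩ := exists_sym_action
  let ψ' : Equiv.Perm (Fin 6) →* Equiv.Perm (Fin tabS.n) := ψ
  obtain ⟨iso⟩ := F.iso_quot hs S.cls hall hz ψ' hr
  have hker : ψ'.ker = ⊥ := (MonoidHom.ker_eq_bot_iff ψ').2 hinj
  exact ⟨(iso.trans (QuotientGroup.quotientMulEquivOfEq hker)).trans QuotientGroup.quotientBot⟩

/-- The four cases. -/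
theorem classify (hz : Subgroup.center G = ⊥) :
    Nonempty (G ≃* Equiv.Perm (Fin 6)) ∨ Nonempty (G ≃* PSU 4 SU32.F4 2) ∨
      Nonempty (G ≃* PSU 5 SU32.F4 2) := by
  obtain ⟨x, hx, v, hv, hxv⟩ := S.nonab
  obtain ⟨y, hy, -⟩ := S.exists_two hx
  obtain ⟨N, hN, hdeg, hind⟩ := S.degree hx hy
  set t := (lineSet D x y).ncard with ht
  have hline : ∀ a ∈ D, ∀ b ∈ dperp D a, (lineSet D a b).ncard = t := fun a ha b hb =>
    S.line_card ha hb hx hy
  have ht3 : 3 ≤ t := S.three_le_line hx hy
  have hk : ∀ a ∈ D, (dperp D a).ncard = N * (t - 1) := fun a ha =>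
    (S.ncard_dperp ha hx).trans hdeg
  have hNall : ∀ a ∈ D, ∀ T ⊆ dperp D a, (∀ p ∈ T, ∀ q ∈ T, Commute p q → p = q) → T.ncard ≤ N := by
    intro a ha
    obtain ⟨b, hb, -⟩ := S.exists_two ha
    obtain ⟨N', -, hdeg', hind'⟩ := S.degree ha hb
    rw [hk a ha, hline a ha b hb] at hdeg'
    rw [Nat.eq_of_mul_eq_mul_right (by omega) hdeg']
    exact hind'
  have htr : ∀ a ∈ D, ∀ b ∈ D, ¬ Commute a b → (trace D a b).ncard = N := fun a ha b hb hab => by
    obtain ⟨c, hc, -⟩ := S.exists_two ha
    exact S.trace_ncard ha hb hab hc (by rw [hk a ha, hline a ha c hc]) (hNall a ha)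
  rcases Nat.eq_or_lt_of_le ht3 with ht' | ht'
  · have h3 : ∀ a ∈ D, ∀ b ∈ dperp D a, (lineSet D a b).ncard = 3 := fun a ha b hb =>
      (hline a ha b hb).trans ht'.symm
    rcases hN with rfl | rfl
    · exact Or.inl (S.iso_six h3 (fun a ha => by rw [hk a ha, ← ht']) htr hz)
    · exact (S.not_nine h3 (fun a ha => by rw [hk a ha, ← ht']) hx hv hxv (htr x hx v hv hxv)).elim
  · obtain ⟨z, z', y', h⟩ := S.exists_conf (fun a ha b hb => by rw [hline a ha b hb]; omega)
      (fun a ha b hb hab => by rw [htr a ha b hb hab]; omega) hx hv hxv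
    obtain ⟨f, F, -⟩ := h.exists_full S
    have hsep : tabB.sep = true := by decide +kernel
    have hn : tabB.n = 45 := rfl
    have hM : ∀ a < 45, f a ∈ D := fun a ha => F.mem a (hn ▸ ha)
    have h16 : f 16 ∈ dperp D (f 0) := ⟨hM 16 (by norm_num),
      fun e => absurd (F.inj hsep (by rw [hn]; norm_num) (by rw [hn]; norm_num) e) (by norm_num),
      (F.rel 0 (by rw [hn]; norm_num) 16 (by rw [hn]; norm_num)).2 (by decide +kernel)⟩
    have hle := S.line_le_five F (by omega) hNall (fun a ha b hb => S.exists_not_commute_dperp ha hb)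
    rw [hline _ (hM 0 (by norm_num)) _ h16] at hle
    have hge : 5 ≤ t := by
      rw [← hline _ (hM 0 (by norm_num)) _ h16]
      have hl : ∀ a ∈ ([0, 15, 16, 20, 24] : List ℕ).toFinset,
          a < 45 ∧ tabB.c a 0 = true ∧ tabB.c a 16 = true := by decide +kernel
      have h1 : f '' ↑([0, 15, 16, 20, 24] : List ℕ).toFinset ⊆ lineSet D (f 0) (f 16) := by
        rintro _ ⟨a, ha, rfl⟩
        obtain ⟨h1, h2, h3⟩ := hl a ha
        exact ⟨hM a h1, (F.rel a (hn ▸ h1) 0 (by rw [hn]; norm_num)).2 h2,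
          (F.rel a (hn ▸ h1) 16 (by rw [hn]; norm_num)).2 h3⟩
      have h2 : Set.InjOn f ↑([0, 15, 16, 20, 24] : List ℕ).toFinset := fun a ha b hb e =>
        F.inj hsep (hn ▸ (hl a ha).1) (hn ▸ (hl b hb).1) e
      have h3 := Set.ncard_le_ncard h1 (Set.toFinite _)
      rw [h2.ncard_image, Set.ncard_coe_finset] at h3
      exact le_of_eq_of_le (by decide) h3
    have ht5 : t = 5 := le_antisymm hle hge
    have h5 : ∀ a ∈ D, ∀ b ∈ dperp D a, (lineSet D a b).ncard = 5 := fun a ha b hb =>
      (hline a ha b hb).trans ht5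
    rcases hN with rfl | rfl
    · have hall := F.exists_eq hsep S.cls S.hperf (by rw [hn]; norm_num) (k := 12)
        (fun a ha => by rw [hk a ha, ht5]) (by decide +kernel)
      exact Or.inr (Or.inl (F.iso_psu hsep S.cls hall hz 4 vecs4 idx4 le_rfl (by decide +kernel)
        (by decide +kernel)))
    · obtain ⟨g, I, g6, g7⟩ := h.exists_sub S
      obtain ⟨g', F'⟩ := exists_full_C S h5 I (by rw [g6, g7]; exact htr x hx v hv hxv)
      have hsep' : tabC.sep = true := by decide +kernel
      have hall := F'.exists_eq hsep' S.cls S.hperf (by decide) (k := 36)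
        (fun a ha => by rw [hk a ha, ht5]) (by decide +kernel)
      exact Or.inr (Or.inr (F'.iso_psu hsep' S.cls hall hz 5 vecs5 idx5 (by norm_num)
        (by decide +kernel) (by decide +kernel)))

end Pre

/-- A class one of whose local subgroups is solvable. -/
theorem solvable_local (hsol : ∀ N : Subgroup G, N.Normal → Group.IsSolvable ↥N → N = ⊥)
    (hperf : ⁅commutator G, commutator G⁆ = commutator G) (hD : IsThreeTranspositionClass D) {x : G}
    (hx : x ∈ D) (hs : Group.IsSolvable ↥(Subgroup.closure (dperp D x))) :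
    Nonempty (G ≃* Equiv.Perm (Fin 5)) ∨ Nonempty (G ≃* Equiv.Perm (Fin 6)) ∨
      Nonempty (G ≃* PSU 4 SU32.F4 2) ∨ Nonempty (G ≃* PSU 5 SU32.F4 2) := by
  by_cases hodd : ∀ a ∈ D, oddCore ↥(Subgroup.closure (dperp D a)) ≤
      Subgroup.center ↥(Subgroup.closure (dperp D a))
  · right
    have hz : Subgroup.center G = ⊥ := hsol _ inferInstance (Group.isSolvable_of_comm fun a b => Subtype.ext (Subgroup.mem_center_iff.1 b.2 a))
    have hnon : ∃ a ∈ D, ∃ b ∈ D, ¬ Commute a b := by
      by_contra hcon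
      push Not at hcon
      have hle : Subgroup.closure D ≤ Subgroup.center G := by
        rw [Subgroup.closure_le]
        exact fun a ha => Subgroup.mem_center_iff.2 fun g =>
          (commute_all hD.2.2 (fun e he => hcon a ha e he) g).eq.symm
      rw [hD.2.2, hz, top_le_iff] at hle
      have : x ∈ (⊥ : Subgroup G) := by rw [hle]; trivial
      exact ne_one hD.1 hx (Subgroup.mem_bot.1 this)
    have hsolv : ∀ a ∈ D, Group.IsSolvable ↥(Subgroup.closure (dperp D a)) := by
      intro a ha
      obtain ⟨g, hg⟩ := class_isConj hD hx ha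
      have hmap : (Subgroup.closure (dperp D x)).map (MulAut.conj g).toMonoidHom =
          Subgroup.closure (dperp D a) := by
        rw [MonoidHom.map_closure]
        congr 1
        refine Set.ext fun c => ⟨?_, fun hc => ⟨g⁻¹ * c * g, ?_, by simp [mul_assoc]⟩⟩
        · rintro ⟨c, hc, rfl⟩
          have := dperp_conj (class_conj hD) g hc
          rwa [hg] at this
        · have := dperp_conj (class_conj hD) g⁻¹ hc
          rw [← hg] at this
          simpa [mul_assoc] using this
      rw [← hmap]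
      exact Group.isSolvable_of_surjective (f := ((Subgroup.closure (dperp D x)).equivMapOfInjective
        (MulAut.conj g).toMonoidHom (MulAut.conj g).injective).toMonoidHom) (MulEquiv.surjective _)
    exact (⟨fun N hN _ h => hsol N hN h, hperf, hD, hnon, hsolv, hodd⟩ : Pre D).classify hz
  · left
    push Not at hodd
    obtain ⟨a, ha, h⟩ := hodd
    exact (LocalTwins.setup_of_oddCore hsol hperf hD ha h).nonempty_five

end Cfsg.Agent.LocalLines
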