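import Cfsg.Agent.LocalLines.Bound
import Cfsg.Agent.LocalLines.Tab.RunC0
import Cfsg.Agent.LocalLines.Tab.RunC1
import Cfsg.Agent.LocalLines.Tab.RunC2
import Cfsg.Agent.LocalLines.Tab.RunK
import Cfsg.Agent.LocalLines.Tab.RunL

/-!
# A hundred and sixty-five members

A configuration and one more member of a trace of nine generate the members of the unitary
quadrangle in dimension five.
-/

set_option autoImplicit false
set_option maxRecDepth 100000

open Cfsg

namespace Cfsg.Agent.LocalLines

open Cfsg.Agent.ThreeTrans Tab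

variable {G : Type*} [Group G] [Finite G] {D : Set G}

/-- The names of the forty-five members among the hundred and sixty-five. -/
def sub45 : List ℕ := [6, 7, 8, 12, 13, 14, 15, 25, 35, 48, 49, 50, 51, 61, 71, 81, 94, 95, 96, 100, 101, 102, 106, 107, 108, 109, 122, 123, 124, 128, 129, 130, 134, 135, 136, 137, 150, 151, 152, 156, 157, 158, 162, 163, 164]

/-- The named members whose relation with the further one is known. -/
def known23 : List ℕ := [6, 7, 81, 94, 95, 101, 102, 106, 108, 109, 122, 123, 129, 130, 134, 136, 137, 150, 151, 157, 158, 162, 164]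

/-- Named members on the line of two named members. -/
def lineList (s t : ℕ) : List ℕ := sub45.filter fun a => tabC.c a s && tabC.c a t

/-- The further member `u` with what the forty-five tell about it. -/
structure Outer (D : Set G) (f : ℕ → G) (u : G) : Prop where
  mem : u ∈ D
  left : Commute u (f 6)
  right : Commute u (f 7)
  out : ∀ a ∈ sub45, u ≠ f a

variable {f : ℕ → G} {u : G}

theorem sub45_rel (I : Inv D tabC f stC12) {a b : ℕ} (ha : a ∈ sub45) (hb : b ∈ sub45) :
    f a ∈ D ∧ (Commute (f a) (f b) ↔ tabC.c a b = true) ∧ bget stC12.r a b = true := by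
  have h := (by decide +kernel : ∀ a ∈ sub45, ∀ b ∈ sub45, bget stC12.r a b = true) a ha b hb
  obtain ⟨h1, -, h3⟩ := I.rel a b h
  exact ⟨I.mem a h1, h3, h⟩

theorem sub45_inj (I : Inv D tabC f stC12) {a b : ℕ} (ha : a ∈ sub45) (hb : b ∈ sub45)
    (h : f a = f b) : a = b := by
  by_contra hne
  obtain ⟨w, -, hw⟩ := (by decide +kernel : ∀ a ∈ sub45, ∀ b ∈ sub45, a ≠ b →
    ∃ w ∈ sub45, stC12.dist tabC a b w = true) a ha b hb hne
  exact I.dist hw h

theorem sub45_conj (I : Inv D tabC f stC12) (hT : IsThreeTranspositionSet D) {a b : ℕ}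
    (ha : a ∈ sub45) (hb : b ∈ sub45) :
    f a * f b * f a = f (tabC.k a b) ∧ tabC.k a b ∈ sub45 := by
  obtain ⟨h1, h2⟩ := (by decide +kernel : ∀ a ∈ sub45, ∀ b ∈ sub45,
    stC12.img tabC a b = some (tabC.k a b) ∧ tabC.k a b ∈ sub45) a ha b hb
  exact ⟨(I.img hT h1).2.2.2, h2⟩

variable (S : Pre D)
include S

theorem Conf.exists_sub {x v z z' y : G} (h : Conf D x v z z' y) :
    ∃ f : ℕ → G, Inv D tabC f stC12 ∧ f 6 = x ∧ f 7 = v := by
  obtain ⟨f, I, hval, hw⟩ := h.chase S (M := tabC) (ids := ![6, 7, 94, 101, 109]) (by decide)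
    (by decide +kernel) (by decide +kernel) (ops := opsC00_0) (s0 := stC00) (by decide +kernel) runC01
    (w1 := tabC.k 101 109) (w := 129) (by decide +kernel) rfl (by decide +kernel) (by decide +kernel)
  have f7 : f 7 = v := hval 1
  have I1 : Inv D tabC f stC10 := by
    have := I.rels (ps := [(7, 129)]) (by decide +kernel) (by
      intro p hp
      obtain rfl := List.mem_singleton.1 hp
      rw [f7, hw]
      exact ⟨fun e => absurd e (h.not_commute S), fun e =>
        absurd e (show ¬ tabC.c 7 129 = true by decide +kernel)⟩)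
    rwa [show stC01.rels [(7, 129)] = stC10 by decide +kernel] at this
  obtain ⟨f', hf', I'⟩ := I1.runAll S.hT S.hc S.lam (five := false) (fun e => by cases e) runC11
  obtain ⟨f'', hf'', I''⟩ := I'.runAll S.hT S.hc S.lam (five := false) (fun e => by cases e) runC12
  have hF : ∀ i : Fin 5, f'' (![6, 7, 94, 101, 109] i) = ![x, v, z, z', y] i := fun i => by
    have hb : stC10.df.testBit (![6, 7, 94, 101, 109] i) = true :=
      (by decide +kernel : ∀ i : Fin 5, stC10.df.testBit (![6, 7, 94, 101, 109] i) = true) i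
    obtain ⟨e1, hb'⟩ := hf' _ hb
    rw [(hf'' _ hb').1, e1, hval]
  exact ⟨f'', I'', hF 0, hF 1⟩

variable (h5 : ∀ a ∈ D, ∀ b ∈ dperp D a, (lineSet D a b).ncard = 5)
include h5

theorem Outer.facts (I : Inv D tabC f stC12) (O : Outer D f u) {t : ℕ} (ht : t ∈ known23) :
    t ∈ sub45 ∧ (Commute u (f t) ↔ tabC.c 9 t = true) := by
  classical
  obtain ⟨hm, h6, h7, hcase⟩ := (by decide +kernel : ∀ t ∈ known23, t ∈ sub45 ∧
    (t = 6 → tabC.c 9 t = true) ∧ (t = 7 → tabC.c 9 t = true) ∧
    (t ≠ 6 → t ≠ 7 → tabC.c 9 t = false ∧ ∃ s ∈ [6, 7],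
      tabC.c s t = true ∧ 5 ≤ (lineList s t).length)) t ht
  refine ⟨hm, ?_⟩
  by_cases e6 : t = 6
  · subst e6; exact ⟨fun _ => h6 rfl, fun _ => O.left⟩
  by_cases e7 : t = 7
  · subst e7; exact ⟨fun _ => h7 rfl, fun _ => O.right⟩
  obtain ⟨hf, s, hs, hst, hlen⟩ := hcase e6 e7
  refine ⟨fun hu => False.elim ?_, fun hc => absurd (hc.symm.trans hf) (by decide)⟩
  have hsm : s ∈ sub45 ∧ s ≠ t ∧ Commute u (f s) := by
    simp only [List.mem_cons, List.not_mem_nil, or_false] at hs
    rcases hs with rfl | rfl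
    exacts [⟨by decide, Ne.symm e6, O.left⟩, ⟨by decide, Ne.symm e7, O.right⟩]
  obtain ⟨hsm, hne, hus⟩ := hsm
  obtain ⟨hsD, hcst, -⟩ := sub45_rel I hsm hm
  have htd : f t ∈ dperp D (f s) :=
    ⟨(sub45_rel I hm hm).1, fun e => hne (sub45_inj I hsm hm e.symm), hcst.2 hst⟩
  have hl : ∀ a ∈ lineList s t, a ∈ sub45 ∧ f a ∈ lineSet D (f s) (f t) := fun a ha => by
    simp only [lineList, List.mem_filter, Bool.and_eq_true] at ha
    obtain ⟨ham, has, hat⟩ := ha
    exact ⟨ham, (sub45_rel I ham ham).1, (sub45_rel I ham hsm).2.1.2 has,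
      (sub45_rel I ham hm).2.1.2 hat⟩
  have hsub : f '' {a | a ∈ lineList s t} ⊆ lineSet D (f s) (f t) := by
    rintro _ ⟨a, ha, rfl⟩
    exact (hl a ha).2
  have hinj : Set.InjOn f {a | a ∈ lineList s t} := fun a ha b hb e =>
    sub45_inj I (hl a ha).1 (hl b hb).1 e
  have hnd : (lineList s t).Nodup := List.Nodup.filter _ (by decide +kernel)
  have heq := Set.eq_of_subset_of_ncard_le hsub (by
    rw [h5 _ hsD _ htd, hinj.ncard_image, show {a | a ∈ lineList s t} = ↑(lineList s t).toFinset by
      ext; simp, Set.ncard_coe_finset, List.toFinset_card_of_nodup hnd]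
    exact hlen) (Set.toFinite _)
  have hmem : u ∈ lineSet D (f s) (f t) := ⟨O.mem, hus, hu⟩
  rw [← heq] at hmem
  obtain ⟨a, ha, e⟩ := hmem
  exact O.out a (hl a ha).1 e.symm

theorem Outer.inv (I : Inv D tabC f stC12) (O : Outer D f u) :
    Inv D tabC (Function.update f 9 u) stK0 := by
  have hmd : ∀ a ∈ sub45, a ≠ 9 := by decide +kernel
  have := (I.update (a := 9) (g := u) (by decide +kernel) O.mem).rels
    (ps := (9 :: known23).map fun t => (9, t)) (by decide +kernel) (fun p hp => by
      obtain ⟨t, ht, rfl⟩ := List.mem_map.1 hp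
      rcases List.mem_cons.1 ht with rfl | ht
      · exact ⟨fun _ => by decide +kernel, fun _ => Commute.refl _⟩
      · obtain ⟨hm, h⟩ := O.facts S h5 I ht
        simp only [Function.update_self, Function.update_of_ne (hmd t hm)]
        exact h)
  rwa [show (stC12.add 9).rels ((9 :: known23).map fun t => (9, t)) = stK0 by decide +kernel] at this

theorem Outer.exists_full (I : Inv D tabC f stC12) (O : Outer D f u)
    (h48 : Commute u (f 48)) : ∃ f' : ℕ → G, Full D tabC f' := by
  have J : Inv D tabC (Function.update f 9 u) stC20 := by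
    have := (O.inv S h5 I).rels (ps := [(9, 48)]) (by decide +kernel) (by
      intro p hp
      obtain rfl := List.mem_singleton.1 hp
      rw [Function.update_self, Function.update_of_ne (by norm_num)]
      exact ⟨fun _ => by decide +kernel, fun _ => h48⟩)
    rwa [show stK0.rels [(9, 48)] = stC20 by decide +kernel] at this
  obtain ⟨f0, J0⟩ : ∃ f0, Inv D tabC f0 stC20 := ⟨_, J⟩
  obtain ⟨f1, -, J1⟩ := J0.runAll S.hT S.hc S.lam (five := true) (fun _ => S.five h5) runC21
  obtain ⟨f2, -, J2⟩ := J1.runAll S.hT S.hc S.lam (five := true) (fun _ => S.five h5) runC22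
  obtain ⟨f3, -, J3⟩ := J2.runAll S.hT S.hc S.lam (five := true) (fun _ => S.five h5) runC23
  obtain ⟨f4, -, J4⟩ := J3.runAll S.hT S.hc S.lam (five := true) (fun _ => S.five h5) runC24
  obtain ⟨f5, -, J5⟩ := J4.runAll S.hT S.hc S.lam (five := true) (fun _ => S.five h5) runC25
  obtain ⟨f6, -, J6⟩ := J5.runAll S.hT S.hc S.lam (five := true) (fun _ => S.five h5) runC26
  obtain ⟨f7, -, J7⟩ := J6.runAll S.hT S.hc S.lam (five := true) (fun _ => S.five h5) runC27
  obtain ⟨f8, -, J8⟩ := J7.runAll S.hT S.hc S.lam (five := true) (fun _ => S.five h5) runC28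
  obtain ⟨f9, -, J9⟩ := J8.runAll S.hT S.hc S.lam (five := true) (fun _ => S.five h5) runC29
  obtain ⟨f10, -, J10⟩ := J9.runAll S.hT S.hc S.lam (five := true) (fun _ => S.five h5) runC210
  obtain ⟨f11, -, J11⟩ := J10.runAll S.hT S.hc S.lam (five := true) (fun _ => S.five h5) runC211
  obtain ⟨f12, -, J12⟩ := J11.runAll S.hT S.hc S.lam (five := true) (fun _ => S.five h5) runC212
  obtain ⟨f13, -, J13⟩ := J12.runAll S.hT S.hc S.lam (five := true) (fun _ => S.five h5) runC213
  obtain ⟨f14, -, J14⟩ := J13.runAll S.hT S.hc S.lam (five := true) (fun _ => S.five h5) runC214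
  obtain ⟨f15, -, J15⟩ := J14.runAll S.hT S.hc S.lam (five := true) (fun _ => S.five h5) runC215
  obtain ⟨f16, -, J16⟩ := J15.runAll S.hT S.hc S.lam (five := true) (fun _ => S.five h5) runC216
  exact ⟨f16, J16.toFull S.hT (by decide +kernel)⟩

/-- Some member outside the forty-five leads to the hundred and sixty-five. -/
theorem exists_full_C (I : Inv D tabC f stC12) (h9 : (trace D (f 6) (f 7)).ncard = 9) :
    ∃ f' : ℕ → G, Full D tabC f' := by
  classical
  obtain ⟨u, hu, hout⟩ : ∃ u ∈ trace D (f 6) (f 7), u ∉ f '' {a | a ∈ [81, 109, 137]} := by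
    refine Set.exists_mem_notMem_of_ncard_lt_ncard ?_ (Set.toFinite _)
    have h1 : (f '' {a | a ∈ [81, 109, 137]}).ncard ≤ ([81, 109, 137] : List ℕ).toFinset.card := by
      rw [← Set.ncard_coe_finset]
      refine le_trans (le_of_eq ?_) (Set.ncard_image_le (f := f) (Set.toFinite _))
      congr 2
    rw [h9]
    exact h1.trans_lt (by decide)
  have O : Outer D f u := ⟨hu.1, hu.2.1, hu.2.2, fun a ha e => hout ⟨a, ?_, e.symm⟩⟩
  swap
  · exact (by decide +kernel : ∀ a ∈ sub45, tabC.c a 6 = true → tabC.c a 7 = true →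
      a ∈ [81, 109, 137]) a ha ((sub45_rel I ha (by decide)).2.1.1 (e ▸ hu.2.1))
      ((sub45_rel I ha (by decide)).2.1.1 (e ▸ hu.2.2))
  by_cases h48 : Commute u (f 48)
  · exact O.exists_full S h5 I h48
  -- the five axiom on the line of 25 and 48
  obtain ⟨g, hg, K⟩ := (O.inv S h5 I).runAll S.hT S.hc S.lam (five := false) (fun e => by cases e) runK1
  have hfix : ∀ a ∈ sub45, g a = f a := fun a ha => by
    obtain ⟨hb, hne⟩ := (by decide +kernel : ∀ a ∈ sub45, stK0.df.testBit a = true ∧ a ≠ 9) a ha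
    rw [(hg a hb).1, Function.update_of_ne hne]
  have g9 : g 9 = u := by
    rw [(hg 9 (by decide +kernel)).1, Function.update_self]
  have h25 : Commute u (f 25) := by
    by_contra h25
    have cc := fun a b (ha : a ∈ sub45) (hb : b ∈ sub45) => sub45_rel I ha hb
    have hn : ∀ a ∈ [100, 134, 150], ¬ Commute u (f a) := fun a ha => by
      obtain ⟨hb, hm, hc⟩ := (by decide +kernel : ∀ a ∈ [100, 134, 150],
        bget stK1.r 9 a = true ∧ a ∈ sub45 ∧ tabC.c 9 a = false) a ha
      have := (K.rel 9 a hb).2.2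
      rw [g9, hfix a hm, hc] at this
      exact fun e => absurd (this.1 e) (by decide)
    have C' : ∀ a ∈ [100, 134, 150, 25, 48], ∀ b ∈ [100, 134, 150, 25, 48], Commute (f a) (f b) :=
      fun a ha b hb => by
        obtain ⟨h1, h2, h3⟩ := (by decide +kernel : ∀ a ∈ [100, 134, 150, 25, 48],
          ∀ b ∈ [100, 134, 150, 25, 48], a ∈ sub45 ∧ b ∈ sub45 ∧ tabC.c a b = true) a ha b hb
        exact (cc a b h1 h2).2.1.2 h3
    have hnd : [f 100, f 134, f 150, f 25, f 48].Nodup := by
      have hm : ∀ a ∈ [100, 134, 150, 25, 48], a ∈ sub45 := by decide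
      show ([100, 134, 150, 25, 48].map f).Nodup
      exact List.Nodup.map_on (fun a ha b hb e => sub45_inj I (hm a ha) (hm b hb) e) (by decide)
    exact h48 (S.five h5 _ (cc 100 100 (by decide) (by decide)).1 _ (cc 134 134 (by decide) (by decide)).1
      _ (cc 150 150 (by decide) (by decide)).1 _ (cc 25 25 (by decide) (by decide)).1
      _ (cc 48 48 (by decide) (by decide)).1 u O.mem
      (C' _ (by simp) _ (by simp)) (C' _ (by simp) _ (by simp)) (C' _ (by simp) _ (by simp))
      (C' _ (by simp) _ (by simp)) (C' _ (by simp) _ (by simp)) (C' _ (by simp) _ (by simp))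
      (C' _ (by simp) _ (by simp)) (C' _ (by simp) _ (by simp)) (C' _ (by simp) _ (by simp))
      (C' _ (by simp) _ (by simp)) hnd (hn _ (by simp)) (hn _ (by simp)) (hn _ (by simp)) h25)
  have hy := fun a (ha : a ∈ sub45) => sub45_conj I S.hT (a := 109) (b := a) (by decide) ha
  have hyD : f 109 ∈ D := (sub45_rel I (a := 109) (b := 109) (by decide) (by decide)).1
  have hcc : ∀ a ∈ sub45, Commute u (f a) → Commute (f 109 * u * f 109) (f (tabC.k 109 a)) := by
    intro a ha e
    rw [← (hy a ha).1]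
    have := (commute_conj (f 109) u (f a)).2 e
    rwa [inv_eq S.hT hyD] at this
  have O' : Outer D f (f 109 * u * f 109) := by
    refine ⟨conj_mem S.hT S.hc hyD O.mem, ?_, ?_, fun a ha e => O.out _ (hy a ha).2 ?_⟩
    · have := hcc 6 (by decide) O.left
      rwa [show tabC.k 109 6 = 6 by decide +kernel] at this
    · have := hcc 7 (by decide) O.right
      rwa [show tabC.k 109 7 = 7 by decide +kernel] at this
    · rw [← (hy a ha).1, ← e]
      simp only [← mul_assoc, mul_self S.hT hyD, one_mul, mul_mul_self S.hT hyD]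
  have h71 : Commute (f 109 * u * f 109) (f 71) := by
    have := hcc 25 (by decide) h25
    rwa [show tabC.k 109 25 = 71 by decide +kernel] at this
  have L0 : Inv D tabC (Function.update f 9 (f 109 * u * f 109)) stL0 := by
    have := (O'.inv S h5 I).rels (ps := [(9, 71)]) (by decide +kernel) (by
      intro p hp
      obtain rfl := List.mem_singleton.1 hp
      rw [Function.update_self, Function.update_of_ne (by norm_num)]
      exact ⟨fun _ => by decide +kernel, fun _ => h71⟩)
    rwa [show stK0.rels [(9, 71)] = stL0 by decide +kernel] at this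
  obtain ⟨l, hl, L⟩ := L0.runAll S.hT S.hc S.lam (five := true) (fun _ => S.five h5) runL1
  refine O'.exists_full S h5 I ?_
  have := (L.rel 9 48 (by decide +kernel)).2.2
  rw [(hl 9 (by decide +kernel)).1, (hl 48 (by decide +kernel)).1, Function.update_self,
    Function.update_of_ne (by norm_num)] at this
  exact this.2 (by decide +kernel)

end Cfsg.Agent.LocalLines
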