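import Cfsg.Agent.LocalLines.GQ

/-!
# Lines with three members

Lines of three members allow at most three lines on a member, and then there are fifteen members
with the table of the transpositions of six letters.
-/

set_option autoImplicit false

open Cfsg

namespace Cfsg.Agent.LocalLines

open Cfsg.Agent.ThreeTrans

variable {G : Type*} [Group G] [Finite G] {D : Set G} {x y z v : G}

namespace Pre

variable (S : Pre D)
include S

/-- The third member of a line of three. -/
theorem exists_third (h3 : ∀ a ∈ D, ∀ b ∈ dperp D a, (lineSet D a b).ncard = 3) {a b : G}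
    (ha : a ∈ D) (hb : b ∈ dperp D a) :
    ∃ c ∈ lineSet D a b, c ≠ a ∧ c ≠ b ∧ ∀ d ∈ lineSet D a b, d = a ∨ d = b ∨ d = c := by
  obtain ⟨p, q, r, hpq, hpr, hqr, he⟩ := Set.ncard_eq_three.1 (h3 a ha b hb)
  have ha' := S.mem_lineSet_left ha hb
  have hb' := S.mem_lineSet_right hb
  have hab : a ≠ b := Ne.symm hb.2.1
  rw [he] at ha' hb' ⊢
  simp only [Set.mem_insert_iff, Set.mem_singleton_iff] at ha' hb' ⊢
  rcases ha' with rfl | rfl | rfl <;> rcases hb' with rfl | rfl | rfl <;>
    first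
      | exact absurd rfl hab
      | exact ⟨r, Or.inr (Or.inr rfl), Ne.symm hpr, Ne.symm hqr, fun d h => by tauto⟩
      | exact ⟨q, Or.inr (Or.inl rfl), Ne.symm hpq, hqr, fun d h => by tauto⟩
      | exact ⟨r, Or.inr (Or.inr rfl), Ne.symm hqr, Ne.symm hpr, fun d h => by tauto⟩
      | exact ⟨p, Or.inl rfl, hpq, hpr, fun d h => by tauto⟩
      | exact ⟨q, Or.inr (Or.inl rfl), hqr, Ne.symm hpq, fun d h => by tauto⟩
      | exact ⟨p, Or.inl rfl, hpr, hpq, fun d h => by tauto⟩

/-- With lines of three members there are no nine lines on a member. -/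
theorem not_nine (h3 : ∀ a ∈ D, ∀ b ∈ dperp D a, (lineSet D a b).ncard = 3)
    (hk : ∀ a ∈ D, (dperp D a).ncard = 18) {x v : G} (hx : x ∈ D) (hv : v ∈ D)
    (hxv : ¬ Commute x v) (hT : (trace D x v).ncard = 9) : False := by
  classical
  set T := trace D x v with hTdef
  have hsx := S.trace_subset hx hv hxv
  have hsv : T ⊆ dperp D v := fun c hc => ⟨hc.1, fun e => hxv (e ▸ hc.2.1.symm), hc.2.2.symm⟩
  -- a member commuting with all members of the trace except two
  have key : ∀ a ∈ T, ∀ b ∈ T, a ≠ b →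
      ∃ q ∈ D, ¬ Commute q a ∧ ¬ Commute q b ∧ ∀ c ∈ T, c ≠ a → c ≠ b → Commute q c ∧ q ≠ c := by
    intro a ha b hb hab
    have ha1 : a ∈ dperp D x := hsx ha
    have hb1 : b ∈ dperp D v := hsv hb
    obtain ⟨ax, hax, hne1, hne2, -⟩ := S.exists_third h3 hx ha1
    obtain ⟨bv, hbv, hne3, hne4, hall'⟩ := S.exists_third h3 hv hb1
    have n1 : ∀ c ∈ T, c ≠ a → ¬ Commute ax c := fun c hc hca e =>
      hca (S.trace_indep hx hv hxv c hc a ha
        (S.lam x hx ax hax.1 (Ne.symm hne1) hax.2.1.symm c hc.1 a ha.1 hc.2.1 e.symm ha.2.1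
          hax.2.2.symm))
    have n2 : ∀ c ∈ T, c ≠ b → ¬ Commute bv c := fun c hc hcb e =>
      hcb (S.trace_indep hx hv hxv c hc b hb
        (S.lam v hv bv hbv.1 (Ne.symm hne3) hbv.2.1.symm c hc.1 b hb.1 hc.2.2 e.symm hb.2.2
          hbv.2.2.symm))
    have naxv : ¬ Commute ax v := fun e =>
      hne2 (S.line_unique hx ha1 hv (fun e' => hxv e'.symm) hax (S.mem_lineSet_right ha1) e.symm
        ha.2.2.symm)
    have hab' : Commute ax bv := by
      obtain ⟨w, hw, hwc⟩ := S.exists_on_line hv hb1 hax.1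
      rcases hall' w hw with rfl | rfl | rfl
      · exact absurd hwc naxv
      · exact absurd hwc (n1 w hb (Ne.symm hab))
      · exact hwc
    have hbvax : bv ∈ dperp D ax := ⟨hbv.1, fun e => naxv (e ▸ hbv.2.1), hab'⟩
    obtain ⟨q, hq, hne5, hne6, hall''⟩ := S.exists_third h3 hax.1 hbvax
    refine ⟨q, hq.1, fun e => n2 a ha hab ?_, fun e => n1 b hb (Ne.symm hab) ?_,
      fun c hc hca hcb => ?_⟩
    · exact S.lam ax hax.1 q hq.1 (Ne.symm hne5) hq.2.1.symm bv hbv.1 a ha.1 hab'.symm hq.2.2.symm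
        hax.2.2.symm e.symm
    · exact S.lam bv hbv.1 q hq.1 (Ne.symm hne6) hq.2.2.symm ax hax.1 b hb.1 hab' hq.2.1.symm
        hbv.2.2.symm e.symm
    · have hqc : q ≠ c := fun e => n1 c hc hca (e ▸ hq.2.1.symm)
      refine ⟨?_, hqc⟩
      obtain ⟨w, hw, hwc⟩ := S.exists_on_line hax.1 hbvax hc.1
      rcases hall'' w hw with rfl | rfl | rfl
      · exact absurd hwc.symm (n1 c hc hca)
      · exact absurd hwc.symm (n2 c hc hcb)
      · exact hwc.symm
  obtain ⟨c, hc⟩ : T.Nonempty := Set.nonempty_of_ncard_ne_zero (by omega)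
  let T' : Finset G := (Set.toFinite T).toFinset.erase c
  have hT' : T'.card = 8 := by
    rw [Finset.card_erase_of_mem ((Set.Finite.mem_toFinset _).2 hc), ← Set.ncard_eq_toFinset_card,
      hT]
  have hP : ∀ s ∈ T'.powersetCard 2, ∃ q ∈ dperp D c, ∀ d ∈ T, d ∈ s ↔ ¬ Commute q d := by
    intro s hs
    obtain ⟨hsub, hcard⟩ := Finset.mem_powersetCard.1 hs
    obtain ⟨a, b, hab, rfl⟩ := Finset.card_eq_two.1 hcard
    have hmem : ∀ d ∈ ({a, b} : Finset G), d ≠ c ∧ d ∈ T := fun d hd => by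
      simpa [T'] using hsub hd
    obtain ⟨hac, haT⟩ := hmem a (by simp)
    obtain ⟨hbc, hbT⟩ := hmem b (by simp)
    obtain ⟨q, hqD, hqa, hqb, hq⟩ := key a haT b hbT hab
    obtain ⟨hqc, hqne⟩ := hq c hc (Ne.symm hac) (Ne.symm hbc)
    refine ⟨q, ⟨hqD, hqne, hqc.symm⟩, fun d hd => ⟨fun h => ?_, fun h => ?_⟩⟩
    · rcases Finset.mem_insert.1 h with rfl | h
      · exact hqa
      · rw [Finset.mem_singleton.1 h]; exact hqb
    · by_contra hds
      simp only [Finset.mem_insert, Finset.mem_singleton, not_or] at hds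
      exact h (hq d hd hds.1 hds.2).1
  choose φ hφ hφ' using hP
  have h28 : (T'.powersetCard 2).card ≤ (Set.toFinite (dperp D c)).toFinset.card := by
    refine Finset.card_le_card_of_injOn (fun s => if h : s ∈ T'.powersetCard 2 then φ s h else c)
      (fun s hs => ?_) (fun s hs t ht h => ?_)
    · simp only [dif_pos (Finset.mem_coe.1 hs)]
      exact (Set.Finite.mem_toFinset _).2 (hφ s hs)
    · have hs' := Finset.mem_coe.1 hs
      have ht' := Finset.mem_coe.1 ht
      simp only [dif_pos hs', dif_pos ht'] at h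
      have hsT : ∀ u ∈ T'.powersetCard 2, ∀ d ∈ u, d ∈ T := fun u hu d hd => by
        have := (Finset.mem_powersetCard.1 hu).1 hd
        simp [T'] at this
        exact this.2
      refine Finset.ext fun d => ⟨fun hd => ?_, fun hd => ?_⟩
      · rw [hφ' t ht' d (hsT s hs' d hd), ← h, ← hφ' s hs' d (hsT s hs' d hd)]
        exact hd
      · rw [hφ' s hs' d (hsT t ht' d hd), h, ← hφ' t ht' d (hsT t ht' d hd)]
        exact hd
  rw [Finset.card_powersetCard, hT', ← Set.ncard_eq_toFinset_card, hk c hc.1] at h28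
  exact absurd h28 (by decide)

end Pre

end Cfsg.Agent.LocalLines
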